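import Mathlib
import Cfsg.Agent.H152.Blocks
set_option linter.all false

-- part: H152/DetPi
section
/-!
# The determinant of an endomorphism of a finite product acting componentwise
-/

set_option autoImplicit false

namespace Cfsg.Agent.H152

open Polynomial

theorem det_blockDiagonal' {R : Type*} [CommRing R] {d : ℕ} {m : Fin d → Type*}
    [∀ i, Fintype (m i)] [∀ i, DecidableEq (m i)] (A : ∀ i, Matrix (m i) (m i) R) :
    (Matrix.blockDiagonal' A).det = ∏ i, (A i).det := by
  classical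
  rw [(Matrix.blockTriangular_blockDiagonal' A).det_fintype]
  refine Finset.prod_congr rfl fun k _ => ?_
  let ε : {a : Σ i, m i // a.1 = k} ≃ m k :=
    { toFun := fun a => a.2 ▸ a.1.2
      invFun := fun x => ⟨⟨k, x⟩, rfl⟩
      left_inv := by rintro ⟨⟨i, x⟩, rfl⟩; rfl
      right_inv := fun x => rfl }
  rw [← Matrix.det_reindex_self ε]
  congr 1
  ext x y
  simp only [Matrix.reindex_apply, Matrix.submatrix_apply, Matrix.toSquareBlock,
    Matrix.toSquareBlockProp]
  exact Matrix.blockDiagonal'_apply_eq A k x y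

/-- The determinant of a componentwise endomorphism. -/
theorem det_piMap {R : Type*} [CommRing R] {d : ℕ} {M : Fin d → Type*} [∀ i, AddCommGroup (M i)]
    [∀ i, Module R (M i)] [∀ i, Module.Free R (M i)] [∀ i, Module.Finite R (M i)]
    (f : ∀ i, M i →ₗ[R] M i) :
    LinearMap.det (LinearMap.pi fun i => (f i).comp (LinearMap.proj i)) =
      ∏ i, LinearMap.det (f i) := by
  classical
  let b := fun i => Module.Free.chooseBasis R (M i)
  rw [← LinearMap.det_toMatrix (Pi.basis b)]
  have h : LinearMap.toMatrix (Pi.basis b) (Pi.basis b)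
      (LinearMap.pi fun i => (f i).comp (LinearMap.proj i)) =
      Matrix.blockDiagonal' fun i => LinearMap.toMatrix (b i) (b i) (f i) := by
    ext ⟨i, x⟩ ⟨j, y⟩
    rw [LinearMap.toMatrix_apply, Pi.basis_apply, Pi.basis_repr]
    simp only [LinearMap.pi_apply, LinearMap.comp_apply, LinearMap.proj_apply]
    rw [Matrix.blockDiagonal'_apply]
    by_cases hij : i = j
    · subst hij
      rw [Pi.single_eq_same, dif_pos rfl, LinearMap.toMatrix_apply]
      rfl
    · rw [Pi.single_eq_of_ne hij, dif_neg hij]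
      simp
  rw [h, det_blockDiagonal']
  exact Finset.prod_congr rfl fun i _ => LinearMap.det_toMatrix (b i) (f i)

variable {F : Type*} [Field F]

/-- `nm g f` : the determinant of the multiplication by `f` on `F[X] / (g)`. -/
noncomputable def nm (g f : F[X]) : F :=
  LinearMap.det (LinearMap.mulLeft F (AdjoinRoot.mk g f))

theorem nm_mul (g f f' : F[X]) : nm g (f * f') = nm g f * nm g f' := by
  rw [nm, map_mul, LinearMap.mulLeft_mul, LinearMap.det_comp]
  rfl

theorem nm_one_right (g : F[X]) : nm g 1 = 1 := by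
  rw [nm, map_one, LinearMap.mulLeft_one, LinearMap.det_id]

theorem nm_congr {g f f' : F[X]} (h : g ∣ f - f') : nm g f = nm g f' := by
  rw [nm, nm, AdjoinRoot.mk_eq_mk.mpr h]

theorem nm_one_left (f : F[X]) : nm 1 f = 1 := by
  rw [nm_congr (f' := 1) (one_dvd _), nm_one_right]

/-- Multiplicativity of `nm` in the modulus. -/
theorem nm_mul_left {g₁ g₂ : F[X]} (h₁ : g₁ ≠ 0) (h₂ : g₂ ≠ 0) (f : F[X]) :
    nm (g₁ * g₂) f = nm g₁ f * nm g₂ f := by
  classical
  have h12 : g₁ * g₂ ≠ 0 := mul_ne_zero h₁ h₂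
  have hfin : Module.Finite F (AdjoinRoot (g₁ * g₂)) := (AdjoinRoot.powerBasis h12).finite
  -- `W` : the multiples of `g₁`
  let W : Submodule F (AdjoinRoot (g₁ * g₂)) :=
    LinearMap.range (LinearMap.mulLeft F (AdjoinRoot.mk (g₁ * g₂) g₁))
  have hW : ∀ x, x ∈ W ↔ ∃ u, AdjoinRoot.mk (g₁ * g₂) (g₁ * u) = x := by
    intro x
    constructor
    · rintro ⟨y, rfl⟩
      obtain ⟨u, rfl⟩ := AdjoinRoot.mk_surjective y
      exact ⟨u, by rw [map_mul]; rfl⟩
    · rintro ⟨u, rfl⟩
      exact ⟨AdjoinRoot.mk _ u, by rw [map_mul]; rfl⟩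
  obtain ⟨e, he⟩ : ∃ e, e = LinearMap.mulLeft F (AdjoinRoot.mk (g₁ * g₂) f) := ⟨_, rfl⟩
  have heW : W ≤ Submodule.comap e W := by
    intro x hx
    obtain ⟨u, rfl⟩ := (hW x).mp hx
    rw [Submodule.mem_comap, hW]
    refine ⟨f * u, ?_⟩
    rw [he, LinearMap.mulLeft_apply, ← map_mul]
    congr 1
    ring
  -- `A / W ≅ F[X] / (g₁)`
  let Φ : F[X] →ₗ[F] (AdjoinRoot (g₁ * g₂) ⧸ W) :=
    (Submodule.mkQ W).comp (AdjoinRoot.mkₐ (R := F) (g₁ * g₂)).toLinearMap
  have hΦ : Function.Surjective Φ := (Submodule.mkQ_surjective _).comp AdjoinRoot.mk_surjective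
  have hΦa : ∀ u, Φ u = Submodule.Quotient.mk (AdjoinRoot.mk (g₁ * g₂) u) := fun u => rfl
  have hΦk : LinearMap.ker Φ = LinearMap.ker (AdjoinRoot.mkₐ (R := F) g₁).toLinearMap := by
    ext u
    rw [LinearMap.mem_ker, LinearMap.mem_ker, hΦa, Submodule.Quotient.mk_eq_zero, hW]
    change _ ↔ AdjoinRoot.mk g₁ u = 0
    rw [AdjoinRoot.mk_eq_zero]
    constructor
    · rintro ⟨w, hw⟩
      rw [AdjoinRoot.mk_eq_mk] at hw
      obtain ⟨z, hz⟩ := hw
      exact ⟨w - g₂ * z, by linear_combination -hz⟩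
    · rintro ⟨w, rfl⟩
      exact ⟨w, rfl⟩
  have hmk : Function.Surjective (AdjoinRoot.mkₐ (R := F) g₁).toLinearMap :=
    AdjoinRoot.mk_surjective
  let E₁ : (AdjoinRoot (g₁ * g₂) ⧸ W) ≃ₗ[F] AdjoinRoot g₁ :=
    (Φ.quotKerEquivOfSurjective hΦ).symm.trans ((Submodule.quotEquivOfEq _ _ hΦk).trans
      ((AdjoinRoot.mkₐ (R := F) g₁).toLinearMap.quotKerEquivOfSurjective hmk))
  have hE₁ : ∀ u, E₁ (Φ u) = AdjoinRoot.mk g₁ u := by
    intro u
    have h1 : (Φ.quotKerEquivOfSurjective hΦ).symm (Φ u) = Submodule.Quotient.mk u := by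
      rw [LinearEquiv.symm_apply_eq]
      rfl
    simp only [E₁, LinearEquiv.trans_apply]
    rw [h1]
    rfl
  -- `W ≅ F[X] / (g₂)`
  let Ψ : F[X] →ₗ[F] W := LinearMap.codRestrict W
    ((AdjoinRoot.mkₐ (R := F) (g₁ * g₂)).toLinearMap.comp (LinearMap.mulLeft F g₁))
    (fun u => (hW _).mpr ⟨u, rfl⟩)
  have hΨa : ∀ u, ((Ψ u : W) : AdjoinRoot (g₁ * g₂)) = AdjoinRoot.mk (g₁ * g₂) (g₁ * u) :=
    fun u => rfl
  have hΨ : Function.Surjective Ψ := by
    rintro ⟨x, hx⟩
    obtain ⟨u, rfl⟩ := (hW x).mp hx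
    exact ⟨u, rfl⟩
  have hΨk : LinearMap.ker Ψ = LinearMap.ker (AdjoinRoot.mkₐ (R := F) g₂).toLinearMap := by
    ext u
    rw [LinearMap.mem_ker, LinearMap.mem_ker, ← Submodule.coe_eq_zero, hΨa, AdjoinRoot.mk_eq_zero]
    change _ ↔ AdjoinRoot.mk g₂ u = 0
    rw [AdjoinRoot.mk_eq_zero, mul_dvd_mul_iff_left h₁]
  have hmk2 : Function.Surjective (AdjoinRoot.mkₐ (R := F) g₂).toLinearMap :=
    AdjoinRoot.mk_surjective
  let E₂ : W ≃ₗ[F] AdjoinRoot g₂ :=
    (Ψ.quotKerEquivOfSurjective hΨ).symm.trans ((Submodule.quotEquivOfEq _ _ hΨk).trans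
      ((AdjoinRoot.mkₐ (R := F) g₂).toLinearMap.quotKerEquivOfSurjective hmk2))
  have hE₂ : ∀ u, E₂ (Ψ u) = AdjoinRoot.mk g₂ u := by
    intro u
    have h1 : (Ψ.quotKerEquivOfSurjective hΨ).symm (Ψ u) = Submodule.Quotient.mk u := by
      rw [LinearEquiv.symm_apply_eq]
      rfl
    simp only [E₂, LinearEquiv.trans_apply]
    rw [h1]
    rfl
  have hdet := LinearMap.det_eq_det_mul_det W e heW
  have d1 : LinearMap.det (W.mapQ W e heW) = nm g₁ f := by
    rw [nm, ← LinearMap.det_conj _ E₁]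
    congr 1
    ext x
    obtain ⟨u, rfl⟩ := AdjoinRoot.mk_surjective x
    rw [LinearMap.comp_apply, LinearMap.comp_apply, LinearEquiv.coe_coe, LinearEquiv.coe_coe,
      ← hE₁ u, LinearEquiv.symm_apply_apply, hE₁, LinearMap.mulLeft_apply, ← map_mul, ← hE₁]
    congr 1
    rw [hΦa, hΦa, Submodule.mapQ_apply, he, LinearMap.mulLeft_apply, ← map_mul]
  have d2 : LinearMap.det (e.restrict heW) = nm g₂ f := by
    rw [nm, ← LinearMap.det_conj _ E₂]
    congr 1
    ext x
    obtain ⟨u, rfl⟩ := AdjoinRoot.mk_surjective x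
    rw [LinearMap.comp_apply, LinearMap.comp_apply, LinearEquiv.coe_coe, LinearEquiv.coe_coe,
      ← hE₂ u, LinearEquiv.symm_apply_apply, hE₂, LinearMap.mulLeft_apply, ← map_mul, ← hE₂]
    congr 1
    apply Subtype.ext
    rw [LinearMap.coe_restrict_apply, hΨa, hΨa, he, LinearMap.mulLeft_apply, ← map_mul]
    congr 1
    ring
  rw [nm, ← he, hdet, d1, d2, mul_comm]

theorem nm_pow_left {g : F[X]} (hg : g ≠ 0) (f : F[X]) (k : ℕ) : nm (g ^ k) f = nm g f ^ k := by
  induction k with
  | zero => rw [pow_zero, pow_zero, nm_one_left]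
  | succ k ih => rw [pow_succ, nm_mul_left (pow_ne_zero _ hg) hg, ih, pow_succ]

end Cfsg.Agent.H152
end

-- part: H152/Tuple
section
/-!
# The polynomials `h_j` of an endomorphism

`hp T j = ∏ φ ^ (number of primary blocks F[X] / (φ ^ j) of T)`.

* `hp_eq` : computation from any primary decomposition;
* `exists_equiv_of_hp` : `T`, `T'` are similar iff `hp T = hp T'`;
* `sum_hp` : `∑ j * deg (hp T j) = dim V`; `det_hp` : `det T = ∏ ((-1) ^ deg * hp T j (0)) ^ j`;
* `exists_commute_det` : over a finite field, if `hp T j ≠ 1` then `det` takes the value `c ^ j` on the centralizer.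
-/

set_option autoImplicit false

namespace Cfsg.Agent.H152

open Polynomial

variable {F : Type*} [Field F]

theorem nm_X {g : F[X]} (hg : g.Monic) : nm g X = (-1) ^ g.natDegree * g.coeff 0 := by
  have h := Algebra.PowerBasis.norm_gen_eq_coeff_zero_minpoly (R := F) (AdjoinRoot.powerBasis hg.ne_zero)
  rw [AdjoinRoot.powerBasis_gen, AdjoinRoot.minpoly_root hg.ne_zero, hg.leadingCoeff, inv_one, C_1,
    mul_one, AdjoinRoot.powerBasis_dim] at h
  exact h

/-- Over a finite field the norm `nm p` is surjective for `p` irreducible. -/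
theorem exists_nm [Finite F] {p : F[X]} (hp : Irreducible p) (c : F) : ∃ f : F[X], nm p f = c := by
  have := Fact.mk hp
  have hfin : Module.Finite F (AdjoinRoot p) := (AdjoinRoot.powerBasis hp.ne_zero).finite
  have hfin' : Finite (AdjoinRoot p) := Module.finite_of_finite F
  obtain ⟨x, hx⟩ := FiniteField.norm_surjective F (AdjoinRoot p) c
  obtain ⟨f, rfl⟩ := AdjoinRoot.mk_surjective x
  exact ⟨f, hx⟩

variable {V : Type*} [AddCommGroup V] [Module F V]

/-- The determinant of a map acting on the `i`-th summand as `f_i(T)`. -/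
theorem IsCyc.det_of_equiv {T : Module.End F V} {d : ℕ} {g : Fin d → F[X]} {v : Fin d → V}
    (h : IsCyc T g v) (hg : ∀ i, g i ≠ 0) (C : Module.End F V) (f : Fin d → F[X])
    (hC : ∀ x i, h.equiv (C x) i = AdjoinRoot.mk (g i) (f i) * h.equiv x i) :
    LinearMap.det C = ∏ i, nm (g i) (f i) := by
  have hfin : ∀ i, Module.Finite F (AdjoinRoot (g i)) := fun i =>
    (AdjoinRoot.powerBasis (hg i)).finite
  rw [← LinearMap.det_conj C h.equiv]
  have : (h.equiv.toLinearMap ∘ₗ C ∘ₗ h.equiv.symm.toLinearMap) =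
      LinearMap.pi fun i => (LinearMap.mulLeft F (AdjoinRoot.mk (g i) (f i))).comp
        (LinearMap.proj i) := by
    apply LinearMap.ext
    intro x
    funext i
    rw [LinearMap.comp_apply, LinearMap.comp_apply, LinearEquiv.coe_coe, LinearEquiv.coe_coe, hC,
      LinearEquiv.apply_symm_apply]
    rfl
  rw [this, det_piMap]
  rfl

theorem IsCyc.det_eq {T : Module.End F V} {d : ℕ} {g : Fin d → F[X]} {v : Fin d → V}
    (h : IsCyc T g v) (hg : ∀ i, (g i).Monic) :
    LinearMap.det T = ∏ i, ((-1) ^ (g i).natDegree * (g i).coeff 0) := by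
  rw [h.det_of_equiv (fun i => (hg i).ne_zero) T (fun _ => X)]
  · exact Finset.prod_congr rfl fun i _ => nm_X (hg i)
  · intro x i
    have h1 : T x = aeval T (X : F[X]) x := by rw [aeval_X]
    rw [h1, h.equiv_aeval]

theorem IsCyc.finrank_eq {T : Module.End F V} {ι : Type*} [Fintype ι] {g : ι → F[X]} {v : ι → V}
    (h : IsCyc T g v) (hg : ∀ i, g i ≠ 0) : Module.finrank F V = ∑ i, (g i).natDegree := by
  have hfin : ∀ i, Module.Finite F (AdjoinRoot (g i)) := fun i =>
    (AdjoinRoot.powerBasis (hg i)).finite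
  rw [h.equiv.finrank_eq, Module.finrank_pi_fintype]
  exact Finset.sum_congr rfl fun i _ => finrank_quotient_span_eq_natDegree

/-- The centralizer of `T` contains maps acting as `f(T)` on one cyclic summand and trivially on the others. -/
theorem IsCyc.exists_commute {T : Module.End F V} {d : ℕ} {g : Fin d → F[X]} {v : Fin d → V}
    (h : IsCyc T g v) (hg : ∀ i, g i ≠ 0) (i₀ : Fin d) (f : F[X]) :
    ∃ C : Module.End F V, C * T = T * C ∧ LinearMap.det C = nm (g i₀) f := by
  classical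
  let D : (∀ i, AdjoinRoot (g i)) →ₗ[F] (∀ i, AdjoinRoot (g i)) :=
    LinearMap.pi fun i => (LinearMap.mulLeft F (AdjoinRoot.mk (g i) (if i = i₀ then f else 1))).comp
        (LinearMap.proj i)
  let C : Module.End F V := h.equiv.symm.toLinearMap ∘ₗ D ∘ₗ h.equiv.toLinearMap
  have hC : ∀ x i, h.equiv (C x) i = AdjoinRoot.mk (g i) (if i = i₀ then f else 1) * h.equiv x i := by
    intro x i
    simp only [C, LinearMap.comp_apply, LinearEquiv.coe_coe, LinearEquiv.apply_symm_apply]
    rfl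
  refine ⟨C, ?_, ?_⟩
  · apply LinearMap.ext
    intro x
    apply h.equiv.injective
    funext i
    have h1 : ∀ x, T x = aeval T (X : F[X]) x := fun x => by rw [aeval_X]
    rw [Module.End.mul_apply, Module.End.mul_apply, hC, h1, h.equiv_aeval, h1, h.equiv_aeval, hC]
    ring
  · rw [h.det_of_equiv hg C _ hC, Finset.prod_eq_single i₀]
    · rw [if_pos rfl]
    · intro i _ hi
      rw [if_neg hi, nm_one_right]
    · intro h; exact absurd (Finset.mem_univ _) h

variable [FiniteDimensional F V]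

/-- `hp T j = ∏ φ ^ (number of blocks F[X] / (φ ^ j) of T)`. -/
noncomputable def hp (T : Module.End F V) (j : ℕ) : F[X] :=
  ∏ i ∈ Finset.univ.filter (fun i => (exists_dec T).choose_spec.choose_spec.choose i = j),
    (exists_dec T).choose_spec.choose i

theorem hp_def (T : Module.End F V) : ∃ (d : ℕ) (p : Fin d → F[X]) (e : Fin d → ℕ) (v : Fin d → V),
    IsDec T p e v ∧ ∀ j, hp T j = ∏ i ∈ Finset.univ.filter (fun i => e i = j), p i :=
  ⟨(exists_dec T).choose, (exists_dec T).choose_spec.choose,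
    (exists_dec T).choose_spec.choose_spec.choose,
    (exists_dec T).choose_spec.choose_spec.choose_spec.choose,
    (exists_dec T).choose_spec.choose_spec.choose_spec.choose_spec, fun _ => rfl⟩

omit [FiniteDimensional F V] in
/-- Uniqueness of primary decompositions, for similar endomorphisms. -/
theorem IsDec.exists_equiv {V' : Type*} [AddCommGroup V'] [Module F V']
    {T : Module.End F V} {T' : Module.End F V'} {ι ι' : Type*} [Fintype ι] [Fintype ι']
    {p : ι → F[X]} {e : ι → ℕ} {v : ι → V} {p' : ι' → F[X]} {e' : ι' → ℕ} {v' : ι' → V'}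
    (hd : IsDec T p e v) (hd' : IsDec T' p' e' v')
    (h : ∀ φ : F[X], φ.Monic → Irreducible φ → ∀ j : ℕ,
      Module.finrank F (LinearMap.ker (aeval T (φ ^ j))) =
        Module.finrank F (LinearMap.ker (aeval T' (φ ^ j)))) :
    ∃ σ : ι ≃ ι', ∀ i, p' (σ i) = p i ∧ e' (σ i) = e i := by
  classical
  obtain ⟨σ, hσ⟩ := exists_equiv_of_fiber (fun i => (p i, e i)) (fun i => (p' i, e' i)) (by
    rintro ⟨φ, j⟩
    simp only [Prod.mk.injEq]
    by_cases hφ : φ.Monic ∧ Irreducible φ
    · rcases j with _ | j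
      · rw [Finset.filter_false_of_mem (fun i _ h0 => (hd.pos i).ne' h0.2),
          Finset.filter_false_of_mem (fun i _ h0 => (hd'.pos i).ne' h0.2)]
        rfl
      · have h1 := hd.card_mul hφ.1 hφ.2 j
        have h2 := hd'.card_mul hφ.1 hφ.2 j
        rw [← h φ hφ.1 hφ.2, ← h φ hφ.1 hφ.2, ← h φ hφ.1 hφ.2] at h2
        have h3 : 0 < φ.natDegree := hφ.2.natDegree_pos
        exact Nat.eq_of_mul_eq_mul_right h3 (by omega)
    · rw [Finset.filter_false_of_mem (fun i _ (h0 : p i = φ ∧ e i = j) =>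
          hφ (h0.1 ▸ ⟨hd.monic i, hd.irr i⟩)),
        Finset.filter_false_of_mem (fun i _ (h0 : p' i = φ ∧ e' i = j) =>
          hφ (h0.1 ▸ ⟨hd'.monic i, hd'.irr i⟩))]
      rfl)
  refine ⟨σ, fun i => ?_⟩
  have := hσ i
  simpa only [Prod.mk.injEq] using this

theorem prod_filter_equiv {ι ι' : Type*} [Fintype ι] [Fintype ι'] {p : ι → F[X]} {e : ι → ℕ}
    {p' : ι' → F[X]} {e' : ι' → ℕ} (σ : ι ≃ ι') (hσ : ∀ i, p' (σ i) = p i ∧ e' (σ i) = e i)
    (j : ℕ) : ∏ i ∈ Finset.univ.filter (fun i => e i = j), p i =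
      ∏ i ∈ Finset.univ.filter (fun i => e' i = j), p' i := by
  rw [Finset.prod_filter, Finset.prod_filter, ← Equiv.prod_comp σ]
  refine Finset.prod_congr rfl fun i _ => ?_
  rw [(hσ i).1, (hσ i).2]

theorem hp_eq {T : Module.End F V} {ι : Type*} [Fintype ι] {p : ι → F[X]} {e : ι → ℕ} {v : ι → V}
    (hd : IsDec T p e v) (j : ℕ) :
    hp T j = ∏ i ∈ Finset.univ.filter (fun i => e i = j), p i := by
  obtain ⟨d, p', e', v', hd', h⟩ := hp_def T
  obtain ⟨σ, hσ⟩ := hd'.exists_equiv hd (fun _ _ _ _ => rfl)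
  rw [h, prod_filter_equiv σ hσ]

theorem hp_monic (T : Module.End F V) (j : ℕ) : (hp T j).Monic := by
  obtain ⟨d, p', e', v', hd', h⟩ := hp_def T
  rw [h]
  exact monic_prod_of_monic _ _ fun i _ => hd'.monic i

theorem hp_congr {V' : Type*} [AddCommGroup V'] [Module F V'] [FiniteDimensional F V']
    (T : Module.End F V) (T' : Module.End F V')
    (h : ∀ φ : F[X], φ.Monic → Irreducible φ → ∀ j : ℕ,
      Module.finrank F (LinearMap.ker (aeval T (φ ^ j))) =
        Module.finrank F (LinearMap.ker (aeval T' (φ ^ j)))) (j : ℕ) : hp T j = hp T' j := by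
  obtain ⟨d, p, e, v, hd, h1⟩ := hp_def T
  obtain ⟨d', p', e', v', hd', h2⟩ := hp_def T'
  obtain ⟨σ, hσ⟩ := hd.exists_equiv hd' h
  rw [h1, h2, prod_filter_equiv σ hσ]

/-- **The tuple `hp T` determines `T` up to similarity.** -/
theorem exists_equiv_of_hp {V' : Type*} [AddCommGroup V'] [Module F V'] [FiniteDimensional F V']
    (T : Module.End F V) (T' : Module.End F V') (h : ∀ j, hp T j = hp T' j) :
    ∃ E : V ≃ₗ[F] V', ∀ x, E (T x) = T' (E x) := by
  classical
  obtain ⟨d, p, e, v, hd, h1⟩ := hp_def T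
  obtain ⟨d', p', e', v', hd', h2⟩ := hp_def T'
  obtain ⟨σ, hσ⟩ := exists_equiv_of_fiber (fun i => (p i, e i)) (fun i => (p' i, e' i)) (by
    rintro ⟨φ, j⟩
    have key : ∀ {d : ℕ} {p : Fin d → F[X]} {e : Fin d → ℕ} (_ : ∀ i, (p i).Monic)
        (_ : ∀ i, Irreducible (p i)), (Finset.univ.filter fun i => (p i, e i) = (φ, j)).card =
        (UniqueFactorizationMonoid.normalizedFactors
          (∏ i ∈ Finset.univ.filter (fun i => e i = j), p i)).count φ := by
      intro d p e hm hi
      have h3 : UniqueFactorizationMonoid.normalizedFactors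
          (∏ i ∈ Finset.univ.filter (fun i => e i = j), p i) =
          (Finset.univ.filter (fun i => e i = j)).val.map p := by
        have : ∏ i ∈ Finset.univ.filter (fun i => e i = j), p i =
            ((Finset.univ.filter (fun i => e i = j)).val.map p).prod := rfl
        rw [this, UniqueFactorizationMonoid.normalizedFactors_prod_eq]
        · rw [Multiset.map_map]
          refine Multiset.map_congr rfl fun i _ => ?_
          exact (hm i).normalize_eq_self
        · intro a ha
          obtain ⟨i, -, rfl⟩ := Multiset.mem_map.mp ha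
          exact hi i
      rw [h3, Multiset.count_map]
      rw [← Finset.filter_val, Finset.filter_filter]
      change _ = Finset.card _
      congr 1
      ext i
      simp only [Finset.mem_filter, Finset.mem_univ, true_and, Prod.mk.injEq]
      constructor
      · rintro ⟨a, b⟩; exact ⟨b, a.symm⟩
      · rintro ⟨a, b⟩; exact ⟨b.symm, a⟩
    rw [key hd.monic hd.irr, key hd'.monic hd'.irr, ← h1, ← h2, h])
  refine hd.cyc.similar hd'.cyc σ ?_
  intro i
  have := hσ i
  simp only [Prod.mk.injEq] at this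
  rw [this.1, this.2]

omit [FiniteDimensional F V] in
theorem IsDec.e_le {T : Module.End F V} {ι : Type*} [Fintype ι] {p : ι → F[X]} {e : ι → ℕ}
    {v : ι → V} (hd : IsDec T p e v) (i : ι) : e i ≤ Module.finrank F V := by
  rw [hd.cyc.finrank_eq (fun i => pow_ne_zero _ (hd.irr i).ne_zero)]
  have h1 : e i ≤ (p i ^ e i).natDegree := by
    rw [(hd.monic i).natDegree_pow]
    exact Nat.le_mul_of_pos_right _ (hd.irr i).natDegree_pos
  exact h1.trans (Finset.single_le_sum (f := fun i => (p i ^ e i).natDegree)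
    (fun _ _ => Nat.zero_le _) (Finset.mem_univ i))

theorem hp_zero (T : Module.End F V) : hp T 0 = 1 := by
  obtain ⟨d, p, e, v, hd, h1⟩ := hp_def T
  rw [h1, Finset.filter_false_of_mem (fun i _ h0 => (hd.pos i).ne' h0), Finset.prod_empty]

theorem hp_of_lt (T : Module.End F V) {j : ℕ} (hj : Module.finrank F V < j) : hp T j = 1 := by
  obtain ⟨d, p, e, v, hd, h1⟩ := hp_def T
  rw [h1, Finset.filter_false_of_mem (fun i _ (h0 : e i = j) => by
    have := hd.e_le i
    omega), Finset.prod_empty]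

/-- The degrees add up to the dimension. -/
theorem sum_hp (T : Module.End F V) :
    ∑ j ∈ Finset.range (Module.finrank F V + 1), j * (hp T j).natDegree = Module.finrank F V := by
  classical
  obtain ⟨d, p, e, v, hd, h1⟩ := hp_def T
  have h2 := hd.cyc.finrank_eq (fun i => pow_ne_zero _ (hd.irr i).ne_zero)
  conv_rhs => rw [h2]
  have h3 : ∀ j, j * (hp T j).natDegree =
      ∑ i ∈ Finset.univ.filter (fun i => e i = j), (p i ^ e i).natDegree := by
    intro j
    rw [h1, natDegree_prod_of_monic _ _ (fun i _ => hd.monic i), Finset.mul_sum]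
    refine Finset.sum_congr rfl fun i hi => ?_
    rw [(hd.monic i).natDegree_pow, (Finset.mem_filter.mp hi).2]
  rw [Finset.sum_congr rfl fun j _ => h3 j]
  apply Finset.sum_fiberwise_of_maps_to
  intro i _
  rw [Finset.mem_range]
  have := hd.e_le i
  omega

/-- The determinant of `T` from the constant terms of the `hp T j`. -/
theorem det_hp (T : Module.End F V) :
    LinearMap.det T = ∏ j ∈ Finset.range (Module.finrank F V + 1),
      ((-1) ^ (hp T j).natDegree * (hp T j).coeff 0) ^ j := by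
  classical
  obtain ⟨d, p, e, v, hd, h1⟩ := hp_def T
  rw [hd.cyc.det_eq (fun i => (hd.monic i).pow _)]
  have h3 : ∀ j, ((-1) ^ (hp T j).natDegree * (hp T j).coeff 0) ^ j =
      ∏ i ∈ Finset.univ.filter (fun i => e i = j),
        ((-1) ^ (p i ^ e i).natDegree * (p i ^ e i).coeff 0) := by
    intro j
    rw [h1, natDegree_prod_of_monic _ _ (fun i _ => hd.monic i), coeff_zero_prod,
      ← Finset.prod_pow_eq_pow_sum, ← Finset.prod_mul_distrib, ← Finset.prod_pow]
    refine Finset.prod_congr rfl fun i hi => ?_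
    rw [(hd.monic i).natDegree_pow, (Finset.mem_filter.mp hi).2, mul_pow, ← pow_mul,
      coeff_zero_eq_eval_zero, coeff_zero_eq_eval_zero, eval_pow, mul_comm j]
  rw [Finset.prod_congr rfl fun j _ => h3 j]
  symm
  apply Finset.prod_fiberwise_of_maps_to
  intro i _
  rw [Finset.mem_range]
  have := hd.e_le i
  omega

/-- Over a finite field, if `hp T j ≠ 1` then `det` takes the value `c ^ j` on the centralizer of `T`. -/
theorem exists_commute_det [Finite F] (T : Module.End F V) {j : ℕ} (hj : hp T j ≠ 1) (c : F) :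
    ∃ C : Module.End F V, C * T = T * C ∧ LinearMap.det C = c ^ j := by
  classical
  obtain ⟨d, p, e, v, hd, h1⟩ := hp_def T
  have h2 : (Finset.univ.filter (fun i => e i = j)).Nonempty := by
    rw [Finset.nonempty_iff_ne_empty]
    intro h
    apply hj
    rw [h1, h, Finset.prod_empty]
  obtain ⟨i, hi⟩ := h2
  obtain ⟨f, hf⟩ := exists_nm (hd.irr i) c
  obtain ⟨C, hC1, hC2⟩ := hd.cyc.exists_commute (fun i => pow_ne_zero _ (hd.irr i).ne_zero) i f
  refine ⟨C, hC1, ?_⟩
  rw [hC2, nm_pow_left (hd.irr i).ne_zero, hf, (Finset.mem_filter.mp hi).2]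

end Cfsg.Agent.H152
end
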