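import Mathlib
import Cfsg.Agent.H152.Tuple
set_option linter.all false

/-!
# The (conjugate-)reciprocal polynomial and the tuples of isometries

`til σ f = σ(f(0))⁻¹ * X ^ deg f * f^σ (1 / X)`, for an involution (or the identity) `σ` of the field.

* `til_mul`, `til_til`, `til_monic`, `til_irreducible`;
* `aeval_reverse` : `f.reverse (u⁻¹) * u ^ deg f = f(u)`;
* `exists_perm_of_til` : if `dim ker (til φ)(T)^j = dim ker φ(T)^j` for all `φ`, `j` then `til` permutes the blocks
  of `T`; `til_hp` : `til (hp T j) = hp T j`.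
-/

set_option autoImplicit false

namespace Cfsg.Agent.H152

open Polynomial

variable {F : Type*} [Field F]

/-- The conjugate-reciprocal polynomial. -/
noncomputable def til (σ : F →+* F) (f : F[X]) : F[X] :=
  C (σ (f.coeff 0))⁻¹ * (f.map σ).reverse

section Til

variable (σ : F →+* F)

theorem reverse_map_natDegree {f : F[X]} (h0 : f.coeff 0 ≠ 0) :
    (f.map σ).reverse.natDegree = f.natDegree := by
  rw [reverse_natDegree, natDegree_map, natTrailingDegree_eq_zero.mpr, Nat.sub_zero]
  right
  rw [coeff_map]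
  exact (map_ne_zero σ).mpr h0

theorem til_natDegree {f : F[X]} (h0 : f.coeff 0 ≠ 0) : (til σ f).natDegree = f.natDegree := by
  rw [til, natDegree_C_mul (inv_ne_zero ((map_ne_zero σ).mpr h0)), reverse_map_natDegree σ h0]

theorem reverse_map_leadingCoeff {f : F[X]} (h0 : f.coeff 0 ≠ 0) :
    (f.map σ).reverse.leadingCoeff = σ (f.coeff 0) := by
  rw [reverse_leadingCoeff, trailingCoeff, natTrailingDegree_eq_zero.mpr, coeff_map]
  right
  rw [coeff_map]
  exact (map_ne_zero σ).mpr h0

theorem til_monic {f : F[X]} (h0 : f.coeff 0 ≠ 0) : (til σ f).Monic := by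
  rw [Monic, til, leadingCoeff_mul, leadingCoeff_C, reverse_map_leadingCoeff σ h0,
    inv_mul_cancel₀ ((map_ne_zero σ).mpr h0)]

theorem til_coeff_zero {f : F[X]} (hf : f.Monic) : (til σ f).coeff 0 = (σ (f.coeff 0))⁻¹ := by
  rw [til, coeff_C_mul, coeff_zero_reverse, leadingCoeff_map, hf.leadingCoeff, map_one, mul_one]

theorem til_coeff_zero_ne {f : F[X]} (hf : f.Monic) (h0 : f.coeff 0 ≠ 0) : (til σ f).coeff 0 ≠ 0 := by
  rw [til_coeff_zero σ hf]
  exact inv_ne_zero ((map_ne_zero σ).mpr h0)

theorem til_mul (f g : F[X]) : til σ (f * g) = til σ f * til σ g := by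
  rw [til, til, til, mul_coeff_zero, map_mul, mul_inv, C_mul, Polynomial.map_mul,
    reverse_mul_of_domain]
  ring

theorem til_one : til σ (1 : F[X]) = 1 := by
  rw [til, Polynomial.map_one, coeff_one_zero, map_one, inv_one, C_1, one_mul, ← C_1, reverse_C]

theorem til_pow (f : F[X]) (k : ℕ) : til σ (f ^ k) = til σ f ^ k := by
  induction k with
  | zero => rw [pow_zero, pow_zero, til_one]
  | succ k ih => rw [pow_succ, til_mul, ih, pow_succ]

theorem til_prod {ι : Type*} (s : Finset ι) (f : ι → F[X]) :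
    til σ (∏ i ∈ s, f i) = ∏ i ∈ s, til σ (f i) := by
  classical
  induction s using Finset.induction_on with
  | empty => rw [Finset.prod_empty, Finset.prod_empty, til_one]
  | insert a s ha ih => rw [Finset.prod_insert ha, Finset.prod_insert ha, til_mul, ih]

theorem reverse_reverse {f : F[X]} (h0 : f.coeff 0 ≠ 0) : f.reverse.reverse = f := by
  have h1 : f.reverse.natDegree = f.natDegree := by
    rw [reverse_natDegree, natTrailingDegree_eq_zero.mpr (Or.inr h0), Nat.sub_zero]
  rw [reverse, h1, reverse, reflect_reflect]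

theorem reverse_map (f : F[X]) : (f.map σ).reverse = f.reverse.map σ := by
  rw [reverse, reverse, natDegree_map, reflect_map]

theorem til_til (hσ : ∀ x, σ (σ x) = x) {f : F[X]} (hf : f.Monic) (h0 : f.coeff 0 ≠ 0) :
    til σ (til σ f) = f := by
  have hσ' : (σ.comp σ) = RingHom.id F := RingHom.ext hσ
  have hne : σ (f.coeff 0) ≠ 0 := (map_ne_zero σ).mpr h0
  conv_lhs => rw [til]
  rw [til_coeff_zero σ hf, map_inv₀ σ, hσ, inv_inv, til, Polynomial.map_mul, map_C, map_inv₀ σ, hσ,
    reverse_mul_of_domain, reverse_C, reverse_map, reverse_map, reverse_map, Polynomial.map_map, hσ',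
    Polynomial.map_id, reverse_reverse h0, ← mul_assoc, ← C_mul, mul_inv_cancel₀ h0, C_1, one_mul]

theorem til_irreducible (hσ : ∀ x, σ (σ x) = x) {f : F[X]} (hf : f.Monic) (h0 : f.coeff 0 ≠ 0)
    (hirr : Irreducible f) : Irreducible (til σ f) := by
  rw [(til_monic σ h0).irreducible_iff_natDegree]
  refine ⟨fun h => ?_, fun a b ha hb hab => ?_⟩
  · have := hirr.natDegree_pos
    rw [← til_natDegree σ h0, h, natDegree_one] at this
    exact lt_irrefl 0 this
  · have hab0 : a.coeff 0 * b.coeff 0 ≠ 0 := by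
      rw [← mul_coeff_zero, hab]
      exact til_coeff_zero_ne σ hf h0
    have ha0 := left_ne_zero_of_mul hab0
    have hb0 := right_ne_zero_of_mul hab0
    have h1 : til σ a * til σ b = f := by rw [← til_mul, hab, til_til σ hσ hf h0]
    have h2 := (hf.irreducible_iff_natDegree.mp hirr).2 _ _ (til_monic σ ha0) (til_monic σ hb0) h1
    rwa [til_natDegree σ ha0, til_natDegree σ hb0] at h2

end Til

/-- Evaluation of the reversed polynomial at the inverse. -/
theorem aeval_reflect {E : Type*} [Ring E] [Algebra F E] (u : Eˣ) (f : F[X]) (N : ℕ)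
    (hN : f.natDegree ≤ N) :
    aeval (↑u⁻¹ : E) (f.reflect N) * (u : E) ^ N = aeval (u : E) f := by
  refine Polynomial.induction_with_natDegree_le
    (fun f => aeval (↑u⁻¹ : E) (f.reflect N) * (u : E) ^ N = aeval (u : E) f) N ?_ ?_ ?_ f hN
  · simp
  · intro n r _ hn
    rw [reflect_C_mul_X_pow, revAt_le hn]
    simp only [map_mul, aeval_C, map_pow, aeval_X]
    rw [mul_assoc, ← Units.val_pow_eq_pow_val, ← Units.val_pow_eq_pow_val, ← Units.val_mul,
      ← Units.val_pow_eq_pow_val]
    congr 2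
    rw [inv_pow, inv_mul_eq_iff_eq_mul, ← pow_add]
    congr 1
    omega
  · intro f g _ _ hf hg
    rw [reflect_add, map_add, map_add, add_mul, hf, hg]

theorem aeval_reverse {E : Type*} [Ring E] [Algebra F E] (u : Eˣ) (f : F[X]) :
    aeval (↑u⁻¹ : E) f.reverse * (u : E) ^ f.natDegree = aeval (u : E) f :=
  aeval_reflect u f _ le_rfl

section Blocks

variable {V : Type*} [AddCommGroup V] [Module F V] {T : Module.End F V}

/-- `X` is not a block of an injective endomorphism. -/
theorem IsDec.coeff_zero_ne {ι : Type*} [Fintype ι] {p : ι → F[X]} {e : ι → ℕ} {v : ι → V}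
    (hd : IsDec T p e v) (hT : Function.Injective T) (i : ι) : (p i).coeff 0 ≠ 0 := by
  classical
  intro h0
  have hX : p i = X := by
    have h1 : (X : F[X]) ∣ p i := X_dvd_iff.mpr h0
    have h2 := irreducible_X.associated_of_dvd (hd.irr i) h1
    exact (eq_of_monic_of_associated monic_X (hd.monic i) h2).symm
  -- `T` kills `X ^ (e - 1) v_i ≠ 0`
  have hk : ∀ k, aeval T (X ^ k : F[X]) (v i) = 0 ↔ e i ≤ k := by
    intro k
    have := hd.cyc.ind (fun j => if j = i then X ^ k else 0)
    rw [Finset.sum_eq_single i (fun j _ hj => by simp [hj]) (fun h => absurd (Finset.mem_univ _) h),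
      if_pos rfl] at this
    rw [this]
    constructor
    · intro h
      have h1 := h i
      rw [if_pos rfl, hX, pow_dvd_pow_iff (X_ne_zero) not_isUnit_X] at h1
      exact h1
    · intro h j
      by_cases hj : j = i
      · subst hj
        rw [if_pos rfl, hX]
        exact pow_dvd_pow _ h
      · rw [if_neg hj]; exact dvd_zero _
  have h3 := (hk (e i)).mpr le_rfl
  obtain ⟨k, hk1⟩ := Nat.exists_eq_succ_of_ne_zero (hd.pos i).ne'
  rw [hk1, Nat.succ_eq_add_one, pow_succ', map_mul, Module.End.mul_apply, aeval_X] at h3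
  have h4 := hT (h3.trans (map_zero T).symm)
  rw [hk, hk1] at h4
  omega

variable (σ : F →+* F)

/-- `til` permutes the blocks. -/
theorem IsDec.exists_perm {ι : Type*} [Fintype ι] {p : ι → F[X]} {e : ι → ℕ} {v : ι → V}
    (hd : IsDec T p e v) (hT : Function.Injective T) (hσ : ∀ x, σ (σ x) = x)
    (h : ∀ φ : F[X], φ.Monic → Irreducible φ → φ.coeff 0 ≠ 0 → ∀ j : ℕ,
      Module.finrank F (LinearMap.ker (aeval T ((til σ φ) ^ j))) =
        Module.finrank F (LinearMap.ker (aeval T (φ ^ j)))) :
    ∃ τ : ι ≃ ι, ∀ i, p (τ i) = til σ (p i) ∧ e (τ i) = e i := by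
  classical
  have h0 := hd.coeff_zero_ne hT
  obtain ⟨τ, hτ⟩ := exists_equiv_of_fiber (fun i => (til σ (p i), e i)) (fun i => (p i, e i)) (by
    rintro ⟨φ, j⟩
    simp only [Prod.mk.injEq]
    by_cases hφ : φ.Monic ∧ Irreducible φ ∧ φ.coeff 0 ≠ 0
    · obtain ⟨hm, hirr, hc⟩ := hφ
      have h1 : (Finset.univ.filter fun i => til σ (p i) = φ ∧ e i = j) =
          Finset.univ.filter fun i => p i = til σ φ ∧ e i = j := by
        apply Finset.filter_congr
        intro i _
        constructor
        · rintro ⟨a, b⟩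
          exact ⟨by rw [← a, til_til σ hσ (hd.monic i) (h0 i)], b⟩
        · rintro ⟨a, b⟩
          exact ⟨by rw [a, til_til σ hσ hm hc], b⟩
      rw [h1]
      rcases j with _ | j
      · rw [Finset.filter_false_of_mem (fun i _ h0 => (hd.pos i).ne' h0.2),
          Finset.filter_false_of_mem (fun i _ h0 => (hd.pos i).ne' h0.2)]
      · have h2 := hd.card_mul hm hirr j
        have h3 := hd.card_mul (til_monic σ hc) (til_irreducible σ hσ hm hc hirr) j
        rw [h φ hm hirr hc, h φ hm hirr hc, h φ hm hirr hc, til_natDegree σ hc] at h3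
        exact Nat.eq_of_mul_eq_mul_right hirr.natDegree_pos (by omega)
    · rw [Finset.filter_false_of_mem (fun i _ (h1 : til σ (p i) = φ ∧ e i = j) =>
          hφ (h1.1 ▸ ⟨til_monic σ (h0 i), til_irreducible σ hσ (hd.monic i) (h0 i) (hd.irr i),
            til_coeff_zero_ne σ (hd.monic i) (h0 i)⟩)),
        Finset.filter_false_of_mem (fun i _ (h1 : p i = φ ∧ e i = j) =>
          hφ (h1.1 ▸ ⟨hd.monic i, hd.irr i, h0 i⟩))])
  refine ⟨τ, fun i => ?_⟩
  have := hτ i
  simpa only [Prod.mk.injEq] using this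

variable [FiniteDimensional F V]

theorem hp_coeff_zero_ne (hT : Function.Injective T) (j : ℕ) : (hp T j).coeff 0 ≠ 0 := by
  obtain ⟨d, p, e, v, hd, h1⟩ := hp_def T
  rw [h1, coeff_zero_prod, Finset.prod_ne_zero_iff]
  exact fun i _ => hd.coeff_zero_ne hT i

/-- The polynomials `hp T j` are invariant under `til`. -/
theorem til_hp (hT : Function.Injective T) (hσ : ∀ x, σ (σ x) = x)
    (h : ∀ φ : F[X], φ.Monic → Irreducible φ → φ.coeff 0 ≠ 0 → ∀ j : ℕ,
      Module.finrank F (LinearMap.ker (aeval T ((til σ φ) ^ j))) =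
        Module.finrank F (LinearMap.ker (aeval T (φ ^ j)))) (j : ℕ) :
    til σ (hp T j) = hp T j := by
  obtain ⟨d, p, e, v, hd, h1⟩ := hp_def T
  obtain ⟨τ, hτ⟩ := hd.exists_perm σ hT hσ h
  rw [h1, til_prod, Finset.prod_filter, Finset.prod_filter,
    ← Equiv.prod_comp τ (fun i => if e i = j then p i else 1)]
  refine Finset.prod_congr rfl fun i _ => ?_
  rw [(hτ i).1, (hτ i).2]

end Blocks

end Cfsg.Agent.H152
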