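import Mathlib
import Cfsg.Agent.H152.Tilde
import Cfsg.Agent.H186.UnipGU
set_option linter.all false

-- part: H152/GUTuple
section
/-!
# The tuples of unitary matrices

`K` a field with `q ^ 2` elements, `A` a matrix with `st q A * A = 1`: the polynomials `hp A j` are invariant under
`h ↦ til σ h`, `σ x = x ^ q`.
-/

set_option autoImplicit false

namespace Cfsg.Agent.H152

open Polynomial Cfsg.Agent.H186 Cfsg.Agent.ClassicalGeometry.GUBasic

variable {ι K : Type*} [Fintype ι] [DecidableEq ι] [Field K]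

theorem aeval_toLin' (A : Matrix ι ι K) (f : K[X]) :
    aeval (Matrix.toLin' A) f = Matrix.toLin' (aeval A f) := by
  have := Polynomial.aeval_algHom_apply (Matrix.toLinAlgEquiv' (R := K) (n := ι)).toAlgHom A f
  exact this

theorem finrank_ker_toLin' (M : Matrix ι ι K) :
    Module.finrank K (LinearMap.ker (Matrix.toLin' M)) = Fintype.card ι - M.rank := by
  have h1 := LinearMap.finrank_range_add_finrank_ker (Matrix.toLin' M)
  rw [Module.finrank_fintype_fun_eq_card] at h1
  have h2 : M.rank = Module.finrank K (LinearMap.range (Matrix.toLin' M)) := by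
    rw [Matrix.rank, Matrix.toLin'_apply']
  omega

variable [Fintype K] {q : ℕ}

omit [DecidableEq ι] in
theorem rank_st' (hK : Fintype.card K = q ^ 2) (M : Matrix ι ι K) : (st q M).rank = M.rank := by
  have e : ι ≃ Fin (Fintype.card ι) := Fintype.equivFin ι
  have h1 := rank_map_pow hK (Matrix.reindex e e M)
  have h2 : (Matrix.reindex e e M).map (fun x => x ^ q) = Matrix.reindex e e (M.map (fun x => x ^ q)) := rfl
  rw [h2, Matrix.rank_reindex, Matrix.rank_reindex] at h1
  rw [st, Matrix.rank_transpose, h1]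

theorem st_pow' (hK : Fintype.card K = q ^ 2) (M : Matrix ι ι K) (k : ℕ) :
    st q (M ^ k) = st q M ^ k := by
  induction k with
  | zero => rw [pow_zero, pow_zero, st_one hK]
  | succ k ih => rw [pow_succ, st_mul hK, ih, pow_succ']

theorem st_aeval (hK : Fintype.card K = q ^ 2) (σ : K →+* K) (hσ : ∀ x, σ x = x ^ q)
    (A : Matrix ι ι K) (f : K[X]) : st q (aeval A f) = aeval (st q A) (f.map σ) := by
  induction f using Polynomial.induction_on' with
  | add f g hf hg => rw [map_add, st_add hK, hf, hg, Polynomial.map_add, map_add]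
  | monomial n a =>
    rw [← C_mul_X_pow_eq_monomial, Polynomial.map_mul, Polynomial.map_pow, map_C, map_X, map_mul,
      map_mul, aeval_C, aeval_C, map_pow, map_pow, aeval_X, aeval_X, st_mul hK, st_pow' hK,
      st_algebraMap hK, hσ, Algebra.commutes]

theorem rank_aeval_til (hK : Fintype.card K = q ^ 2) (σ : K →+* K) (hσ : ∀ x, σ x = x ^ q)
    (A : Matrix ι ι K) (hA : st q A * A = 1) (f : K[X]) (h0 : f.coeff 0 ≠ 0) :
    (aeval A (til σ f)).rank = (aeval A f).rank := by
  have hA' : A * st q A = 1 := mul_eq_one_comm.mp hA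
  let u : (Matrix ι ι K)ˣ := ⟨st q A, A, hA, hA'⟩
  have h1 := aeval_reverse u (f.map σ)
  have h2 : ((u⁻¹ : (Matrix ι ι K)ˣ) : Matrix ι ι K) = A := rfl
  have h3 : (u : Matrix ι ι K) = st q A := rfl
  rw [h2, h3, ← st_aeval hK σ hσ] at h1
  have hdet : ∀ k : ℕ, IsUnit (st q A ^ k).det := by
    intro k
    rw [Matrix.det_pow]
    apply IsUnit.pow
    rw [← h3]
    exact (Matrix.isUnit_iff_isUnit_det _).mp u.isUnit
  have h4 : (aeval A (f.map σ).reverse).rank = (aeval A f).rank := by
    rw [← rank_st' hK (aeval A f), ← h1, Matrix.rank_mul_eq_left_of_isUnit_det _ _ (hdet _)]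
  rw [til, map_mul, aeval_C, ← h4]
  apply Matrix.rank_mul_eq_right_of_isUnit_det
  rw [← Matrix.isUnit_iff_isUnit_det]
  exact (isUnit_iff_ne_zero.mpr (inv_ne_zero ((map_ne_zero σ).mpr h0))).map _

theorem finrank_til (hK : Fintype.card K = q ^ 2) (σ : K →+* K) (hσ : ∀ x, σ x = x ^ q)
    (A : Matrix ι ι K) (hA : st q A * A = 1) (φ : K[X]) (h0 : φ.coeff 0 ≠ 0) (j : ℕ) :
    Module.finrank K (LinearMap.ker (aeval (Matrix.toLin' A) ((til σ φ) ^ j))) =
      Module.finrank K (LinearMap.ker (aeval (Matrix.toLin' A) (φ ^ j))) := by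
  rw [← til_pow, aeval_toLin', aeval_toLin', finrank_ker_toLin', finrank_ker_toLin',
    rank_aeval_til hK σ hσ A hA]
  rw [coeff_zero_eq_eval_zero, eval_pow, ← coeff_zero_eq_eval_zero]
  exact pow_ne_zero _ h0

omit [Fintype K] in
theorem toLin'_injective_of_st (A : Matrix ι ι K) (hA : st q A * A = 1) :
    Function.Injective (Matrix.toLin' A) := by
  intro x y hxy
  rw [Matrix.toLin'_apply, Matrix.toLin'_apply] at hxy
  have := congrArg (fun w => (st q A).mulVec w) hxy
  simpa [Matrix.mulVec_mulVec, hA] using this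

theorem sigma_sigma (hK : Fintype.card K = q ^ 2) (σ : K →+* K) (hσ : ∀ x, σ x = x ^ q) (x : K) :
    σ (σ x) = x := by
  rw [hσ, hσ, pow_pow_q hK]

/-- The polynomials of a unitary matrix are invariant under `til`. -/
theorem til_hp_st (hK : Fintype.card K = q ^ 2) (σ : K →+* K) (hσ : ∀ x, σ x = x ^ q)
    (A : Matrix ι ι K) (hA : st q A * A = 1) (j : ℕ) :
    til σ (hp (Matrix.toLin' A) j) = hp (Matrix.toLin' A) j :=
  til_hp σ (toLin'_injective_of_st A hA) (sigma_sigma hK σ hσ)
    (fun φ _ _ h0 j => finrank_til hK σ hσ A hA φ h0 j) j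

end Cfsg.Agent.H152
end

-- part: H152/Realize
section
/-!
# Transport, direct sums and realisation of cyclic decompositions
-/

set_option autoImplicit false

namespace Cfsg.Agent.H152

open Polynomial

variable {F : Type*} [Field F] {V V' : Type*} [AddCommGroup V] [Module F V] [AddCommGroup V']
  [Module F V']

theorem aeval_intertwine {T : Module.End F V} {T' : Module.End F V'} (E : V →ₗ[F] V')
    (hE : ∀ x, E (T x) = T' (E x)) (f : F[X]) (x : V) : E (aeval T f x) = aeval T' f (E x) := by
  induction f using Polynomial.induction_on' with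
  | add f g hf hg => rw [map_add, map_add, LinearMap.add_apply, LinearMap.add_apply, map_add, hf, hg]
  | monomial n a =>
    rw [← C_mul_X_pow_eq_monomial, map_mul, map_mul, aeval_C, aeval_C, map_pow, map_pow, aeval_X,
      aeval_X, Module.End.mul_apply, Module.End.mul_apply, Module.algebraMap_end_apply,
      Module.algebraMap_end_apply, map_smul]
    congr 1
    induction n generalizing x with
    | zero => rw [pow_zero, pow_zero]; rfl
    | succ n ih => rw [pow_succ, pow_succ, Module.End.mul_apply, Module.End.mul_apply, ih, hE]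

theorem finrank_ker_intertwine {T : Module.End F V} {T' : Module.End F V'} (E : V ≃ₗ[F] V')
    (hE : ∀ x, E (T x) = T' (E x)) (f : F[X]) :
    Module.finrank F (LinearMap.ker (aeval T f)) = Module.finrank F (LinearMap.ker (aeval T' f)) := by
  apply LinearEquiv.finrank_eq
  have h1 : LinearMap.ker (aeval T' f) = (LinearMap.ker (aeval T f)).map E.toLinearMap := by
    ext y
    rw [Submodule.mem_map]
    constructor
    · intro hy
      refine ⟨E.symm y, ?_, E.apply_symm_apply y⟩
      rw [LinearMap.mem_ker] at hy ⊢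
      apply E.injective
      have := aeval_intertwine E.toLinearMap hE f (E.symm y)
      rw [LinearEquiv.coe_coe, E.apply_symm_apply, hy] at this
      rw [this, map_zero]
    · rintro ⟨x, hx, rfl⟩
      rw [LinearMap.mem_ker] at hx ⊢
      have := aeval_intertwine E.toLinearMap hE f x
      rw [← this, hx, map_zero]
  rw [h1]
  exact E.submoduleMap _

theorem IsCyc.transport {T : Module.End F V} {T' : Module.End F V'} {ι : Type*} [Fintype ι]
    {g : ι → F[X]} {v : ι → V} (h : IsCyc T g v) (E : V ≃ₗ[F] V') (hE : ∀ x, E (T x) = T' (E x)) :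
    IsCyc T' g (fun i => E (v i)) := by
  have key : ∀ f : ι → F[X], ∑ i, aeval T' (f i) (E (v i)) = E (∑ i, aeval T (f i) (v i)) := by
    intro f
    rw [map_sum]
    exact Finset.sum_congr rfl fun i _ => (aeval_intertwine E.toLinearMap hE (f i) (v i)).symm
  constructor
  · intro m
    obtain ⟨f, hf⟩ := h.span (E.symm m)
    exact ⟨f, by rw [key, ← hf, E.apply_symm_apply]⟩
  · intro f
    rw [key, LinearEquiv.map_eq_zero_iff, h.ind]

theorem IsDec.transport {T : Module.End F V} {T' : Module.End F V'} {ι : Type*} [Fintype ι]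
    {p : ι → F[X]} {e : ι → ℕ} {v : ι → V} (h : IsDec T p e v) (E : V ≃ₗ[F] V')
    (hE : ∀ x, E (T x) = T' (E x)) : IsDec T' p e (fun i => E (v i)) :=
  ⟨h.monic, h.irr, h.pos, h.cyc.transport E hE⟩

theorem aeval_prodMap (T : Module.End F V) (T' : Module.End F V') (f : F[X]) (x : V) (y : V') :
    aeval (T.prodMap T' : Module.End F (V × V')) f (x, y) = (aeval T f x, aeval T' f y) := by
  apply Prod.ext
  · exact aeval_intertwine (T := (T.prodMap T' : Module.End F (V × V'))) (T' := T)
      (LinearMap.fst F V V') (fun _ => rfl) f (x, y)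
  · exact aeval_intertwine (T := (T.prodMap T' : Module.End F (V × V'))) (T' := T')
      (LinearMap.snd F V V') (fun _ => rfl) f (x, y)

theorem IsCyc.prod {T : Module.End F V} {T' : Module.End F V'} {ι ι' : Type*} [Fintype ι]
    [Fintype ι'] {g : ι → F[X]} {g' : ι' → F[X]} {v : ι → V} {v' : ι' → V'}
    (h : IsCyc T g v) (h' : IsCyc T' g' v') :
    IsCyc (T.prodMap T' : Module.End F (V × V')) (Sum.elim g g')
      (Sum.elim (fun i => ((v i, 0) : V × V')) (fun i => ((0, v' i) : V × V'))) := by
  have key : ∀ f : ι ⊕ ι' → F[X], ∑ i, aeval (T.prodMap T' : Module.End F (V × V')) (f i)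
      (Sum.elim (fun i => ((v i, 0) : V × V')) (fun i => ((0, v' i) : V × V')) i) =
      (∑ i, aeval T (f (Sum.inl i)) (v i), ∑ i, aeval T' (f (Sum.inr i)) (v' i)) := by
    intro f
    rw [Fintype.sum_sum_type]
    simp only [Sum.elim_inl, Sum.elim_inr, aeval_prodMap, map_zero]
    apply Prod.ext
    · rw [Prod.fst_add, Prod.fst_sum, Prod.fst_sum]
      simp
    · rw [Prod.snd_add, Prod.snd_sum, Prod.snd_sum]
      simp
  constructor
  · rintro ⟨x, y⟩
    obtain ⟨f, hf⟩ := h.span x
    obtain ⟨f', hf'⟩ := h'.span y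
    refine ⟨Sum.elim f f', ?_⟩
    rw [key]
    simp only [Sum.elim_inl, Sum.elim_inr]
    rw [← hf, ← hf']
  · intro f
    rw [key, Prod.mk_eq_zero, h.ind, h'.ind]
    constructor
    · rintro ⟨h1, h2⟩ (i | i)
      · exact h1 i
      · exact h2 i
    · intro h1
      exact ⟨fun i => h1 (Sum.inl i), fun i => h1 (Sum.inr i)⟩

/-- Realisation of a family of polynomials. -/
theorem exists_isCyc {ι : Type*} [Fintype ι] (g : ι → F[X]) :
    ∃ (T : Module.End F (∀ i, AdjoinRoot (g i))) (v : ι → ∀ i, AdjoinRoot (g i)), IsCyc T g v := by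
  classical
  let T : Module.End F (∀ i, AdjoinRoot (g i)) :=
    LinearMap.pi fun i => (LinearMap.mulLeft F (AdjoinRoot.root (g i))).comp (LinearMap.proj i)
  have hT : ∀ (f : F[X]) (x : ∀ i, AdjoinRoot (g i)) (i : ι),
      aeval T f x i = AdjoinRoot.mk (g i) f * x i := by
    intro f x i
    have h1 := aeval_intertwine (T := T) (T' := LinearMap.mulLeft F (AdjoinRoot.root (g i)))
      (LinearMap.proj i) (fun _ => rfl) f x
    rw [LinearMap.proj_apply, LinearMap.proj_apply] at h1
    rw [h1]
    have h2 : ∀ f : F[X], aeval (LinearMap.mulLeft F (AdjoinRoot.root (g i))) f =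
        LinearMap.mulLeft F (AdjoinRoot.mk (g i) f) := by
      intro f
      have h3 := Polynomial.aeval_algHom_apply (Algebra.lmul F (AdjoinRoot (g i)))
        (AdjoinRoot.root (g i)) f
      have h4 : aeval (AdjoinRoot.root (g i)) f = AdjoinRoot.mk (g i) f := by
        rw [AdjoinRoot.aeval_eq]
      rw [h4] at h3
      exact h3
    rw [h2]
    rfl
  refine ⟨T, fun i => Pi.single i 1, ?_, ?_⟩
  · intro x
    choose f hf using fun i => AdjoinRoot.mk_surjective (x i)
    refine ⟨f, ?_⟩
    funext j
    rw [Finset.sum_apply, Finset.sum_eq_single j]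
    · rw [hT, Pi.single_eq_same, mul_one, hf]
    · intro i _ hi
      rw [hT, Pi.single_eq_of_ne hi.symm, mul_zero]
    · intro h; exact absurd (Finset.mem_univ _) h
  · intro f
    rw [funext_iff]
    refine forall_congr' fun j => ?_
    rw [Finset.sum_apply, Finset.sum_eq_single j]
    · rw [hT, Pi.single_eq_same, mul_one, Pi.zero_apply, AdjoinRoot.mk_eq_zero]
    · intro i _ hi
      rw [hT, Pi.single_eq_of_ne hi.symm, mul_zero]
    · intro h; exact absurd (Finset.mem_univ _) h

/-- Realisation by a matrix. -/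
theorem exists_matrix_isCyc {ι : Type*} [Fintype ι] (g : ι → F[X]) (hg : ∀ i, g i ≠ 0) :
    ∃ (m : ℕ) (A : Matrix (Fin m) (Fin m) F) (v : ι → Fin m → F), IsCyc (Matrix.toLin' A) g v := by
  have hfin : ∀ i, Module.Finite F (AdjoinRoot (g i)) := fun i =>
    (AdjoinRoot.powerBasis (hg i)).finite
  obtain ⟨T, v, h⟩ := exists_isCyc g
  let b := Module.finBasis F (∀ i, AdjoinRoot (g i))
  refine ⟨_, LinearMap.toMatrix b b T, _, h.transport b.equivFun ?_⟩
  intro x
  rw [Matrix.toLin'_apply, Module.Basis.equivFun_apply, Module.Basis.equivFun_apply,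
    LinearMap.toMatrix_mulVec_repr]

end Cfsg.Agent.H152
end
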