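import Mathlib
import Cfsg.Agent.H152.GUTuple_mg
set_option linter.all false

-- part: H152/GUReal
section
/-!
# Realisation of symmetric families by unitary matrices

`exists_unitary_isDec` : a family `(p_i, e_i)` which is permuted by `til` is the family of the primary blocks of a
matrix `B` with `st q B * B = 1`.
-/

set_option autoImplicit false

namespace Cfsg.Agent.H152

open Polynomial Cfsg.Agent.H186 Cfsg.Agent.ClassicalGeometry.GUBasic

section General

variable {F : Type*} [Field F] {V : Type*} [AddCommGroup V] [Module F V]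

/-- A family permuted by `til` has symmetric kernel dimensions. -/
theorem IsDec.finrank_symm {T : Module.End F V} {ι : Type*} [Fintype ι] {p : ι → F[X]}
    {e : ι → ℕ} {v : ι → V} (h : IsDec T p e v) (σ : F →+* F) (hσ : ∀ x, σ (σ x) = x)
    (h0 : ∀ i, (p i).coeff 0 ≠ 0)
    (τ : ι ≃ ι) (hτ : ∀ i, p (τ i) = til σ (p i) ∧ e (τ i) = e i) {φ : F[X]} (hφ : φ.Monic)
    (hirr : Irreducible φ) (hc : φ.coeff 0 ≠ 0) (j : ℕ) :
    Module.finrank F (LinearMap.ker (aeval T ((til σ φ) ^ j))) =
      Module.finrank F (LinearMap.ker (aeval T (φ ^ j))) := by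
  classical
  rw [h.finrank_ker_pow hφ hirr, h.finrank_ker_pow (til_monic σ hc) (til_irreducible σ hσ hφ hc hirr),
    ← Equiv.sum_comp τ (fun i => if p i = til σ φ then min j (e i) * (til σ φ).natDegree else 0),
    til_natDegree σ hc]
  refine Finset.sum_congr rfl fun i _ => ?_
  rw [(hτ i).1, (hτ i).2]
  by_cases hi : p i = φ
  · rw [if_pos hi, if_pos (by rw [hi])]
  · rw [if_neg hi, if_neg]
    intro h1
    apply hi
    rw [← til_til σ hσ (h.monic i) (h0 i), h1, til_til σ hσ hφ hc]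

/-- Without the block `X` the kernel of `T ^ j` is trivial. -/
theorem IsDec.finrank_X {T : Module.End F V} {ι : Type*} [Fintype ι] {p : ι → F[X]}
    {e : ι → ℕ} {v : ι → V} (h : IsDec T p e v) (h0 : ∀ i, (p i).coeff 0 ≠ 0) (j : ℕ) :
    Module.finrank F (LinearMap.ker (aeval T ((X : F[X]) ^ j))) = 0 := by
  classical
  rw [h.finrank_ker_pow monic_X irreducible_X]
  apply Finset.sum_eq_zero
  intro i _
  rw [if_neg]
  intro h1
  apply h0 i
  rw [h1, coeff_X_zero]

theorem eq_X_of_coeff_zero {φ : F[X]} (hφ : φ.Monic) (hirr : Irreducible φ) (hc : φ.coeff 0 = 0) :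
    φ = X := by
  have h1 : (X : F[X]) ∣ φ := X_dvd_iff.mpr hc
  exact (eq_of_monic_of_associated monic_X hφ (irreducible_X.associated_of_dvd hirr h1)).symm

/-- The determinant of `f(T)`. -/
theorem IsCyc.det_aeval {T : Module.End F V} {ι : Type*} [Fintype ι] {g : ι → F[X]}
    {v : ι → V} (h : IsCyc T g v) (hg : ∀ i, g i ≠ 0) (f : F[X]) :
    LinearMap.det (aeval T f) = ∏ i, nm (g i) f := by
  let ε := Fintype.equivFin ι
  have h' : IsCyc T (g ∘ ε.symm) (v ∘ ε.symm) := by
    constructor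
    · intro m
      obtain ⟨f, hf⟩ := h.span m
      refine ⟨f ∘ ε.symm, ?_⟩
      rw [hf]
      exact (Equiv.sum_comp ε.symm (fun i => aeval T (f i) (v i))).symm
    · intro f
      have := h.ind (f ∘ ε)
      rw [← Equiv.sum_comp ε.symm] at this
      simp only [Function.comp_apply, Equiv.apply_symm_apply] at this
      simp only [Function.comp_apply]
      rw [this]
      constructor
      · intro h1 i
        have := h1 (ε.symm i)
        rwa [Equiv.apply_symm_apply] at this
      · intro h1 i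
        have := h1 (ε i)
        rwa [Equiv.symm_apply_apply] at this
  rw [h'.det_of_equiv (fun i => hg _) (aeval T f) (fun _ => f) (fun x i => h'.equiv_aeval f x i)]
  exact Equiv.prod_comp ε.symm (fun i => nm (g i) f)

end General

variable {K : Type*} [Field K] [Fintype K] {q : ℕ}

theorem exists_unitary_isDec (hK : Fintype.card K = q ^ 2) (σ : K →+* K) (hσ : ∀ x, σ x = x ^ q)
    {ι : Type*} [Fintype ι] (p : ι → K[X]) (e : ι → ℕ) (hm : ∀ i, (p i).Monic)
    (hi : ∀ i, Irreducible (p i)) (he : ∀ i, 0 < e i) (h0 : ∀ i, (p i).coeff 0 ≠ 0)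
    (τ : ι ≃ ι) (hτ : ∀ i, p (τ i) = til σ (p i) ∧ e (τ i) = e i) :
    ∃ (m : ℕ) (B : Matrix (Fin m) (Fin m) K) (v : ι → Fin m → K),
      st q B * B = 1 ∧ IsDec (Matrix.toLin' B) p e v := by
  classical
  have hσσ := sigma_sigma hK σ hσ
  obtain ⟨m, A, v, hA⟩ := exists_matrix_isCyc (fun i => p i ^ e i)
    (fun i => pow_ne_zero _ (hi i).ne_zero)
  have hD : IsDec (Matrix.toLin' A) p e v := ⟨hm, hi, he, hA⟩
  -- `A` is invertible
  have hrankX : ∀ j : ℕ, (A ^ j).rank = m := by
    intro j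
    have h1 := hD.finrank_X h0 j
    rw [aeval_toLin', finrank_ker_toLin', map_pow, aeval_X, Fintype.card_fin] at h1
    have h2 := Matrix.rank_le_card_width (A ^ j)
    rw [Fintype.card_fin] at h2
    omega
  have hunit : IsUnit A := by
    have h1 := hrankX 1
    rw [pow_one] at h1
    rw [← Matrix.mulVec_injective_iff_isUnit]
    have h2 : LinearMap.ker (Matrix.toLin' A) = ⊥ := by
      apply Submodule.finrank_eq_zero.mp
      rw [finrank_ker_toLin', h1, Fintype.card_fin, Nat.sub_self]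
    have h3 := LinearMap.ker_eq_bot.mp h2
    intro x y hxy
    exact h3 (by rw [Matrix.toLin'_apply, Matrix.toLin'_apply]; exact hxy)
  obtain ⟨a, ha⟩ := hunit
  set Ai : Matrix (Fin m) (Fin m) K := ((a⁻¹ : (Matrix (Fin m) (Fin m) K)ˣ) : Matrix (Fin m) (Fin m) K)
    with hAi
  have hAA : A * Ai = 1 := by rw [← ha]; exact Units.mul_inv a
  have hAA' : Ai * A = 1 := by rw [← ha]; exact Units.inv_mul a
  have hs1 : st q A * st q Ai = 1 := by rw [← st_mul hK, hAA', st_one hK]
  have hs2 : st q Ai * st q A = 1 := by rw [← st_mul hK, hAA, st_one hK]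
  -- `A` is similar to `st Ai`
  have hsim : ∀ φ : K[X], φ.Monic → Irreducible φ → ∀ j : ℕ,
      Module.finrank K (LinearMap.ker (aeval (Matrix.toLin' A) (φ ^ j))) =
        Module.finrank K (LinearMap.ker (aeval (Matrix.toLin' (st q Ai)) (φ ^ j))) := by
    intro φ hφm hφi j
    by_cases hc : φ.coeff 0 = 0
    · rw [eq_X_of_coeff_zero hφm hφi hc, hD.finrank_X h0, aeval_toLin', finrank_ker_toLin', map_pow,
        aeval_X]
      have h1 : (st q Ai ^ j).rank = m := by
        have h2 : IsUnit (st q Ai ^ j) := (IsUnit.of_mul_eq_one _ hs2).pow j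
        rw [Matrix.rank_of_isUnit _ h2, Fintype.card_fin]
      rw [h1, Fintype.card_fin, Nat.sub_self]
    · rw [← hD.finrank_symm σ hσσ h0 τ hτ hφm hφi hc j, ← til_pow, aeval_toLin', aeval_toLin',
        finrank_ker_toLin', finrank_ker_toLin']
      congr 1
      have hc' : (φ ^ j).coeff 0 ≠ 0 := by
        rw [coeff_zero_eq_eval_zero, eval_pow, ← coeff_zero_eq_eval_zero]
        exact pow_ne_zero _ hc
      obtain ⟨f, hf⟩ : ∃ f, f = φ ^ j := ⟨_, rfl⟩
      rw [← hf] at hc' ⊢
      -- the right hand side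
      have h1 : (f.map σ).map σ = f := by
        rw [Polynomial.map_map]
        have : σ.comp σ = RingHom.id K := RingHom.ext hσσ
        rw [this, Polynomial.map_id]
      have h2 : aeval (st q Ai) f = st q (aeval Ai (f.map σ)) := by
        rw [st_aeval hK σ hσ, h1]
      rw [h2, rank_st' hK]
      have h3 := aeval_reverse (F := K) (a⁻¹) (f.map σ)
      rw [inv_inv, ha] at h3
      rw [← hAi] at h3
      rw [← h3]
      have hdet : IsUnit (Ai ^ (f.map σ).natDegree).det := by
        rw [← Matrix.isUnit_iff_isUnit_det]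
        exact (IsUnit.of_mul_eq_one _ hAA').pow _
      rw [Matrix.rank_mul_eq_left_of_isUnit_det _ _ hdet, til, map_mul, aeval_C]
      apply Matrix.rank_mul_eq_right_of_isUnit_det
      rw [← Matrix.isUnit_iff_isUnit_det]
      exact (isUnit_iff_ne_zero.mpr (inv_ne_zero ((map_ne_zero σ).mpr hc'))).map _
  obtain ⟨E, hE⟩ := exists_equiv_of_finrank _ _ hsim
  let W : Matrix (Fin m) (Fin m) K := LinearMap.toMatrix' E.toLinearMap
  have hWu : IsUnit W := by
    let W' : Matrix (Fin m) (Fin m) K := LinearMap.toMatrix' E.symm.toLinearMap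
    have h1 : W * W' = 1 := by
      rw [← LinearMap.toMatrix'_comp, LinearEquiv.comp_coe, E.symm_trans_self]
      exact LinearMap.toMatrix'_id
    exact IsUnit.of_mul_eq_one _ h1
  have hWA : W * A = st q Ai * W := by
    apply Matrix.toLin'.injective
    rw [Matrix.toLin'_mul, Matrix.toLin'_mul, Matrix.toLin'_toMatrix']
    exact LinearMap.ext hE
  have hWst : st q A * W * A = W := by
    rw [Matrix.mul_assoc, hWA, ← Matrix.mul_assoc, hs1, Matrix.one_mul]
  obtain ⟨y, hyu, B, hB, hyB⟩ := exists_isometry hK A W hWu (ha ▸ a.isUnit) hWst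
  obtain ⟨y', hy'⟩ := hyu
  let Ey : (Fin m → K) ≃ₗ[K] (Fin m → K) :=
    LinearEquiv.ofLinearMap (Matrix.toLin' y) (Matrix.toLin' (y'⁻¹ : (Matrix (Fin m) (Fin m) K)ˣ).1)
      (by rw [← Matrix.toLin'_mul, ← hy', Units.mul_inv]; exact Matrix.toLin'_one)
      (by rw [← Matrix.toLin'_mul, ← hy', Units.inv_mul]; exact Matrix.toLin'_one)
  refine ⟨m, B, _, hB, hD.transport Ey ?_⟩
  intro x
  change Matrix.toLin' y (Matrix.toLin' A x) = Matrix.toLin' B (Matrix.toLin' y x)
  rw [← LinearMap.comp_apply, ← LinearMap.comp_apply, ← Matrix.toLin'_mul, ← Matrix.toLin'_mul, hyB]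

end Cfsg.Agent.H152
end

-- part: H152/GUCent
section
/-!
# The determinant on the centralizer of a unitary matrix

`exists_unitary_commute_det` : `st q A * A = 1`, `hp A j ≠ 1`, `c ^ (q + 1) = 1`: there is a unitary `C` commuting
with `A` of determinant `c ^ j`.
-/

set_option autoImplicit false

namespace Cfsg.Agent.H152

open Polynomial Cfsg.Agent.H186 Cfsg.Agent.ClassicalGeometry.GUBasic

variable {K : Type*} [Field K] [Fintype K] {q : ℕ}

theorem exists_div_eq (hK : Fintype.card K = q ^ 2) (σ : K →+* K) (hσ : ∀ x, σ x = x ^ q) (c : K)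
    (hc : c ^ (q + 1) = 1) : ∃ b : K, b ≠ 0 ∧ c * b ^ q = b := by
  have hfin : Finite K := inferInstance
  obtain ⟨d, hd⟩ := hilbert90 (S := K) (K := K) σ (sigma_sigma hK σ hσ) (fun x => x ^ q)
    (exists_pow_ne hK) (fun x => hσ x) c (by rw [hσ, ← pow_succ', hc])
  exact ⟨d, d.ne_zero, by rw [← hσ]; exact hd⟩

/-- A polynomial with prescribed norms. -/
theorem exists_nm_pair {p p' : K[X]} (hp : Irreducible p) (hp' : Irreducible p') (hm : p.Monic)
    (hm' : p'.Monic) (hne : p ≠ p') (b : K) : ∃ f : K[X], nm p f = b ∧ nm p' f = 1 := by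
  have hfin : Finite K := inferInstance
  obtain ⟨f, hf⟩ := exists_nm hp b
  have hcop : IsCoprime p p' := by
    rw [hp.coprime_iff_not_dvd]
    intro hdvd
    exact hne (eq_of_monic_of_associated hm hm' (hp.associated_of_dvd hp' hdvd))
  obtain ⟨a, a', haa⟩ := hcop
  refine ⟨a' * p' * f + a * p, ?_, ?_⟩
  · rw [nm_congr (f' := f), hf]
    exact ⟨a - a * f, by linear_combination (f) * haa⟩
  · rw [nm_congr (f' := 1), nm_one_right]
    exact ⟨a' * f - a', by linear_combination haa⟩

omit [Fintype K] in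
/-- The permutation can be chosen to exchange `i₀` with its image. -/
theorem exists_perm_swap {ι : Type*} [DecidableEq ι] (σ : K →+* K) (hσ : ∀ x, σ (σ x) = x)
    {p : ι → K[X]} {e : ι → ℕ} (hm : ∀ i, (p i).Monic) (h0 : ∀ i, (p i).coeff 0 ≠ 0) (τ : ι ≃ ι)
    (hτ : ∀ i, p (τ i) = til σ (p i) ∧ e (τ i) = e i) (i₀ : ι) :
    ∃ (τ' : ι ≃ ι) (i₁ : ι), (∀ i, p (τ' i) = til σ (p i) ∧ e (τ' i) = e i) ∧ τ' i₀ = i₁ ∧
      τ' i₁ = i₀ ∧ (i₁ = i₀ ∨ p i₁ ≠ p i₀) := by
  have hswap : ∀ a b : ι, p a = p b → e a = e b → ∀ i, p (Equiv.swap a b i) = p i ∧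
      e (Equiv.swap a b i) = e i := by
    intro a b h1 h2 i
    by_cases ha : i = a
    · rw [ha, Equiv.swap_apply_left]; exact ⟨h1.symm, h2.symm⟩
    · by_cases hb : i = b
      · rw [hb, Equiv.swap_apply_right]; exact ⟨h1, h2⟩
      · rw [Equiv.swap_apply_of_ne_of_ne ha hb]; exact ⟨rfl, rfl⟩
  by_cases hA : til σ (p i₀) = p i₀
  · have h1 := hswap (τ i₀) i₀ ((hτ i₀).1.trans hA) (hτ i₀).2
    refine ⟨τ.trans (Equiv.swap (τ i₀) i₀), i₀, fun i => ?_, ?_, ?_, Or.inl rfl⟩
    · rw [Equiv.trans_apply, (h1 _).1, (h1 _).2]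
      exact hτ i
    · rw [Equiv.trans_apply, Equiv.swap_apply_left]
    · rw [Equiv.trans_apply, Equiv.swap_apply_left]
  · have hne : p (τ i₀) ≠ p i₀ := by rw [(hτ i₀).1]; exact hA
    have h1 := hswap (τ (τ i₀)) i₀ (by rw [(hτ _).1, (hτ _).1, til_til σ hσ (hm _) (h0 _)])
      (by rw [(hτ _).2, (hτ _).2])
    refine ⟨τ.trans (Equiv.swap (τ (τ i₀)) i₀), τ i₀, fun i => ?_, ?_, ?_, Or.inr hne⟩
    · rw [Equiv.trans_apply, (h1 _).1, (h1 _).2]
      exact hτ i
    · rw [Equiv.trans_apply, Equiv.swap_apply_of_ne_of_ne]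
      · intro h
        have := τ.injective h
        exact hne (by rw [← this])
      · intro h
        exact hne (by rw [h])
    · rw [Equiv.trans_apply, Equiv.swap_apply_left]

/-- The case where the blocks of `B` are `(p_{i₀}, j)` and its image. -/
theorem exists_commute_small (hK : Fintype.card K = q ^ 2) (σ : K →+* K) (hσ : ∀ x, σ x = x ^ q)
    {m : ℕ} (B : Matrix (Fin m) (Fin m) K) (hB : st q B * B = 1) {ι : Type*} [Fintype ι]
    {p : ι → K[X]} {e : ι → ℕ} {v : ι → Fin m → K} (hd : IsDec (Matrix.toLin' B) p e v)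
    (i₀ i₁ : ι) (hι : ∀ i, i = i₀ ∨ i = i₁) (h01 : i₁ = i₀ ∨ p i₁ ≠ p i₀)
    (c : K) (hc : c ^ (q + 1) = 1) :
    ∃ C : Matrix (Fin m) (Fin m) K, st q C * C = 1 ∧ C * B = B * C ∧ C.det = c ^ (e i₀) := by
  classical
  obtain ⟨b, hb0, hb⟩ := exists_div_eq hK σ hσ c hc
  -- the polynomial
  obtain ⟨f, hf⟩ : ∃ f : K[X], LinearMap.det (aeval (Matrix.toLin' B) f) = b ^ (e i₀) := by
    rcases h01 with h01 | h01
    · subst h01
      obtain ⟨f, hf⟩ := exists_nm (hd.irr i₁) b
      refine ⟨f, ?_⟩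
      have huniv : (Finset.univ : Finset ι) = {i₁} := by
        ext i
        simp only [Finset.mem_univ, Finset.mem_singleton, true_iff]
        exact (hι i).elim id id
      rw [hd.cyc.det_aeval (fun i => pow_ne_zero _ (hd.irr i).ne_zero), huniv, Finset.prod_singleton,
        nm_pow_left (hd.irr i₁).ne_zero, hf]
    · obtain ⟨f, hf, hf'⟩ := exists_nm_pair (hd.irr i₀) (hd.irr i₁) (hd.monic i₀) (hd.monic i₁)
        (fun h => h01 h.symm) b
      refine ⟨f, ?_⟩
      have hne : i₀ ≠ i₁ := fun h => h01 (by rw [h])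
      have huniv : (Finset.univ : Finset ι) = {i₀, i₁} := by
        ext i
        simp only [Finset.mem_univ, Finset.mem_insert, Finset.mem_singleton, true_iff]
        exact hι i
      rw [hd.cyc.det_aeval (fun i => pow_ne_zero _ (hd.irr i).ne_zero), huniv,
        Finset.prod_pair hne, nm_pow_left (hd.irr i₀).ne_zero, nm_pow_left (hd.irr i₁).ne_zero, hf,
        hf', one_pow, mul_one]
  obtain ⟨D, hD⟩ : ∃ D : Matrix (Fin m) (Fin m) K, D = aeval B f := ⟨_, rfl⟩
  have hDdet : D.det = b ^ (e i₀) := by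
    rw [aeval_toLin', LinearMap.det_toLin'] at hf
    rw [hD, hf]
  have hDu : IsUnit D := by
    rw [Matrix.isUnit_iff_isUnit_det, hDdet]
    exact isUnit_iff_ne_zero.mpr (pow_ne_zero _ hb0)
  obtain ⟨u, hu⟩ := hDu
  set Di : Matrix (Fin m) (Fin m) K := ((u⁻¹ : (Matrix (Fin m) (Fin m) K)ˣ) : Matrix (Fin m) (Fin m) K)
    with hDi
  have hDD : D * Di = 1 := by rw [← hu]; exact Units.mul_inv u
  have hDD' : Di * D = 1 := by rw [← hu]; exact Units.inv_mul u
  have hs1 : st q D * st q Di = 1 := by rw [← st_mul hK, hDD', st_one hK]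
  have hs2 : st q Di * st q D = 1 := by rw [← st_mul hK, hDD, st_one hK]
  have hB' : B * st q B = 1 := mul_eq_one_comm.mp hB
  -- commutations
  have hBs : Commute B (st q B) := hB'.trans hB.symm
  have hstD : st q D = aeval (st q B) (f.map σ) := by rw [hD, st_aeval hK σ hσ]
  have hcomm_aeval : ∀ (M N : Matrix (Fin m) (Fin m) K) (g : K[X]), Commute M N →
      Commute M (aeval N g) := by
    intro M N g h
    induction g using Polynomial.induction_on' with
    | add g g' hg hg' => rw [map_add]; exact hg.add_right hg'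
    | monomial k a =>
      rw [← C_mul_X_pow_eq_monomial, map_mul, aeval_C, map_pow, aeval_X]
      exact (Algebra.commute_algebraMap_right a M).mul_right (h.pow_right k)
  have c1 : Commute B D := by rw [hD]; exact hcomm_aeval _ _ _ (Commute.refl B)
  have c2 : Commute B (st q D) := by rw [hstD]; exact hcomm_aeval _ _ _ hBs
  have c3 : Commute (st q D) D := by rw [hD]; exact hcomm_aeval _ _ _ (hD ▸ c2).symm
  have c4 : Commute B (st q Di) := by
    have h1 : st q Di * (B * st q D) * st q Di = st q Di * (st q D * B) * st q Di := by rw [c2.eq]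
    have h2 : st q Di * (B * st q D) * st q Di = st q Di * B := by
      rw [mul_assoc, mul_assoc, hs1, mul_one]
    have h3 : st q Di * (st q D * B) * st q Di = B * st q Di := by
      rw [← mul_assoc, hs2, one_mul]
    exact (h3.symm.trans (h1.symm.trans h2))
  have hstst : st q (st q Di) = Di := st_st hK Di
  refine ⟨D * st q Di, ?_, ?_, ?_⟩
  · rw [st_mul hK, hstst]
    calc Di * st q D * (D * st q Di) = Di * (st q D * D) * st q Di := by simp only [mul_assoc]
      _ = Di * (D * st q D) * st q Di := by rw [c3.eq]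
      _ = (Di * D) * (st q D * st q Di) := by simp only [mul_assoc]
      _ = 1 := by rw [hDD', hs1, mul_one]
  · exact (c1.mul_right c4).symm.eq
  · have h1 : (st q Di).det * (st q D).det = 1 := by rw [← Matrix.det_mul, hs2, Matrix.det_one]
    have h2 : (st q D).det = (D.det) ^ q := by
      rw [st, Matrix.det_transpose]
      have : D.map (fun x => x ^ q) = σ.mapMatrix D := by
        ext i j
        rw [Matrix.map_apply, RingHom.mapMatrix_apply, Matrix.map_apply, hσ]
      rw [this, ← RingHom.map_det, hσ]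
    have h3 : (b ^ q) ^ e i₀ ≠ 0 := pow_ne_zero _ (pow_ne_zero _ hb0)
    have h4 : (st q Di).det * (b ^ q) ^ (e i₀) = 1 := by
      rw [h2, hDdet] at h1
      rw [← h1]
      ring
    rw [Matrix.det_mul, hDdet]
    apply mul_right_cancel₀ h3
    rw [mul_assoc, h4, mul_one, ← mul_pow, hb]

omit [Fintype K] in
theorem st_fromBlocks {ι κ : Type*} (A : Matrix ι ι K) (B : Matrix κ κ K) (hq : q ≠ 0) :
    st q (Matrix.fromBlocks A 0 0 B) = Matrix.fromBlocks (st q A) 0 0 (st q B) := by
  rw [st, Matrix.fromBlocks_map, Matrix.fromBlocks_transpose]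
  congr 1
  · ext i j
    simp [hq]
  · ext i j
    simp [hq]

omit [Fintype K] in
theorem st_reindex {ι κ : Type*} (ε : ι ≃ κ) (A : Matrix ι ι K) :
    st q (Matrix.reindex ε ε A) = Matrix.reindex ε ε (st q A) := rfl

/-- **The determinant on the centralizer of a unitary matrix.** -/
theorem exists_unitary_commute_det (hK : Fintype.card K = q ^ 2) {n : ℕ}
    (A : Matrix (Fin n) (Fin n) K) (hA : st q A * A = 1) (j : ℕ) (hj : hp (Matrix.toLin' A) j ≠ 1)
    (c : K) (hc : c ^ (q + 1) = 1) :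
    ∃ C : Matrix (Fin n) (Fin n) K, st q C * C = 1 ∧ C * A = A * C ∧ C.det = c ^ j := by
  classical
  obtain ⟨σ, hσ⟩ := exists_powHom hK
  have hσσ := sigma_sigma hK σ hσ
  have hq : q ≠ 0 := by have := two_le hK; omega
  obtain ⟨d, p, e, v, hd, h1⟩ := hp_def (Matrix.toLin' A)
  have hinj := toLin'_injective_of_st A hA
  have h0 := hd.coeff_zero_ne hinj
  obtain ⟨i₀, hi₀⟩ : ∃ i, e i = j := by
    by_contra hcon
    push Not at hcon
    apply hj
    rw [h1, Finset.filter_false_of_mem (fun i _ => hcon i), Finset.prod_empty]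
  obtain ⟨τ, hτ⟩ := hd.exists_perm σ hinj hσσ (fun φ _ _ h0 j => finrank_til hK σ hσ A hA φ h0 j)
  obtain ⟨τ', i₁, hτ', ht0, ht1, h01⟩ := exists_perm_swap σ hσσ hd.monic h0 τ hτ i₀
  let S : Fin d → Prop := fun i => i = i₀ ∨ i = i₁
  have hS : ∀ i, S i ↔ S (τ' i) := by
    intro i
    constructor
    · rintro (rfl | rfl)
      · exact Or.inr ht0
      · exact Or.inl ht1
    · rintro (h | h)
      · right; apply τ'.injective; rw [h, ht1]
      · left; apply τ'.injective; rw [h, ht0]
  -- the two families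
  obtain ⟨m₁, B₁, v₁, hB₁, hd₁⟩ := exists_unitary_isDec hK σ hσ (ι := {i // S i}) (fun i => p i.1)
    (fun i => e i.1) (fun i => hd.monic _) (fun i => hd.irr _) (fun i => hd.pos _) (fun i => h0 _)
    (τ'.subtypeEquiv hS) (fun i => hτ' i.1)
  obtain ⟨m₂, B₂, v₂, hB₂, hd₂⟩ := exists_unitary_isDec hK σ hσ (ι := {i // ¬ S i}) (fun i => p i.1)
    (fun i => e i.1) (fun i => hd.monic _) (fun i => hd.irr _) (fun i => hd.pos _) (fun i => h0 _)
    (τ'.subtypeEquiv (fun i => not_congr (hS i))) (fun i => hτ' i.1)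
  -- the block matrix
  have hcyc := hd₁.cyc.prod hd₂.cyc
  let L : ((Fin m₁ → K) × (Fin m₂ → K)) ≃ₗ[K] (Fin m₁ ⊕ Fin m₂ → K) :=
    (LinearEquiv.sumArrowLequivProdArrow (Fin m₁) (Fin m₂) K K).symm
  have hL : ∀ x, L (((Matrix.toLin' B₁).prodMap (Matrix.toLin' B₂)) x) =
      Matrix.toLin' (Matrix.fromBlocks B₁ 0 0 B₂) (L x) := by
    rintro ⟨x, y⟩
    rw [Matrix.toLin'_apply]
    funext i
    rcases i with i | i
    · simp [L, Matrix.fromBlocks_mulVec, LinearEquiv.sumArrowLequivProdArrow]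
      rfl
    · simp [L, Matrix.fromBlocks_mulVec, LinearEquiv.sumArrowLequivProdArrow]
      rfl
  have hcyc' := hcyc.transport L hL
  obtain ⟨E, hE⟩ := hd.cyc.similar hcyc' (Equiv.sumCompl S).symm (by
    intro i
    by_cases hi : S i
    · rw [Equiv.sumCompl_symm_apply_of_pos hi]; rfl
    · rw [Equiv.sumCompl_symm_apply_of_neg hi]; rfl)
  have hcard : Fintype.card (Fin m₁ ⊕ Fin m₂) = n := by
    have := E.finrank_eq
    rw [Module.finrank_fintype_fun_eq_card, Module.finrank_fintype_fun_eq_card, Fintype.card_fin] at this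
    exact this.symm
  let ε : Fin m₁ ⊕ Fin m₂ ≃ Fin n := Fintype.equivFinOfCardEq hcard
  let B : Matrix (Fin n) (Fin n) K := Matrix.reindex ε ε (Matrix.fromBlocks B₁ 0 0 B₂)
  have hmul : ∀ M N : Matrix (Fin m₁ ⊕ Fin m₂) (Fin m₁ ⊕ Fin m₂) K,
      Matrix.reindex ε ε M * Matrix.reindex ε ε N = Matrix.reindex ε ε (M * N) := by
    intro M N
    rw [Matrix.reindex_apply, Matrix.reindex_apply, Matrix.reindex_apply, Matrix.submatrix_mul_equiv]
  have hone : Matrix.reindex ε ε (1 : Matrix (Fin m₁ ⊕ Fin m₂) (Fin m₁ ⊕ Fin m₂) K) = 1 := by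
    rw [Matrix.reindex_apply, Matrix.submatrix_one_equiv]
  have hB : st q B * B = 1 := by
    rw [st_reindex, hmul, st_fromBlocks _ _ hq, Matrix.fromBlocks_multiply]
    simp only [Matrix.mul_zero, Matrix.zero_mul, add_zero, zero_add, hB₁, hB₂,
      Matrix.fromBlocks_one]
    exact hone
  -- the matrix of the similarity
  let R : (Fin m₁ ⊕ Fin m₂ → K) ≃ₗ[K] (Fin n → K) := LinearEquiv.funCongrLeft K K ε.symm
  let G : (Fin n → K) ≃ₗ[K] (Fin n → K) := E.trans R
  have hG : ∀ x, G (Matrix.toLin' A x) = Matrix.toLin' B (G x) := by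
    intro x
    change R (E (Matrix.toLin' A x)) = Matrix.toLin' B (R (E x))
    rw [hE]
    funext i
    rw [Matrix.toLin'_apply, Matrix.toLin'_apply]
    change ((Matrix.fromBlocks B₁ 0 0 B₂).mulVec (E x)) (ε.symm i) =
      (B.mulVec (fun k => E x (ε.symm k))) i
    simp only [Matrix.mulVec, dotProduct, B, Matrix.reindex_apply, Matrix.submatrix_apply]
    exact (Equiv.sum_comp ε.symm (fun k => (Matrix.fromBlocks B₁ 0 0 B₂) (ε.symm i) k * E x k)).symm
  let W : Matrix (Fin n) (Fin n) K := LinearMap.toMatrix' G.toLinearMap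
  have hWu : IsUnit W := by
    let W' : Matrix (Fin n) (Fin n) K := LinearMap.toMatrix' G.symm.toLinearMap
    have h1 : W * W' = 1 := by
      rw [← LinearMap.toMatrix'_comp, LinearEquiv.comp_coe, G.symm_trans_self]
      exact LinearMap.toMatrix'_id
    exact IsUnit.of_mul_eq_one _ h1
  have hWA : W * A = B * W := by
    apply Matrix.toLin'.injective
    rw [Matrix.toLin'_mul, Matrix.toLin'_mul, Matrix.toLin'_toMatrix']
    exact LinearMap.ext hG
  obtain ⟨y, hy, hyA⟩ := exists_conj hK A B W hA hB hWu hWA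
  have hy' : y * st q y = 1 := mul_eq_one_comm.mp hy
  -- the centralizing element
  obtain ⟨C₁, hC₁, hC₁B, hC₁d⟩ := exists_commute_small hK σ hσ B₁ hB₁ hd₁ ⟨i₀, Or.inl rfl⟩
    ⟨i₁, Or.inr rfl⟩ (fun i => i.2.elim (fun h => Or.inl (Subtype.ext h)) (fun h => Or.inr (Subtype.ext h)))
    (h01.elim (fun h => Or.inl (Subtype.ext h)) Or.inr) c hc
  let C' : Matrix (Fin n) (Fin n) K := Matrix.reindex ε ε (Matrix.fromBlocks C₁ 0 0 1)
  have hC' : st q C' * C' = 1 := by
    rw [st_reindex, hmul, st_fromBlocks _ _ hq, Matrix.fromBlocks_multiply]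
    simp only [Matrix.mul_zero, Matrix.zero_mul, add_zero, zero_add, hC₁, st_one hK, mul_one,
      Matrix.fromBlocks_one]
    exact hone
  have hC'B : C' * B = B * C' := by
    rw [hmul, hmul, Matrix.fromBlocks_multiply, Matrix.fromBlocks_multiply]
    simp only [Matrix.mul_zero, Matrix.zero_mul, add_zero, zero_add, hC₁B, mul_one, one_mul]
  have hC'd : C'.det = c ^ j := by
    rw [Matrix.det_reindex_self, Matrix.det_fromBlocks_zero₂₁, Matrix.det_one, mul_one, hC₁d, hi₀]
  refine ⟨st q y * C' * y, ?_, ?_, ?_⟩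
  · rw [st_mul hK, st_mul hK, st_st hK]
    calc st q y * (st q C' * y) * (st q y * C' * y)
        = st q y * st q C' * (y * st q y) * C' * y := by simp only [mul_assoc]
      _ = st q y * (st q C' * C') * y := by rw [hy', mul_one]; simp only [mul_assoc]
      _ = 1 := by rw [hC', mul_one, hy]
  · have h2 : A * st q y = st q y * B := by
      calc A * st q y = (st q y * y) * A * st q y := by rw [hy, one_mul]
        _ = st q y * (y * A) * st q y := by simp only [mul_assoc]
        _ = st q y * B * (y * st q y) := by rw [hyA]; simp only [mul_assoc]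
        _ = _ := by rw [hy', mul_one]
    calc st q y * C' * y * A = st q y * C' * (y * A) := by simp only [mul_assoc]
      _ = st q y * (C' * B) * y := by rw [hyA]; simp only [mul_assoc]
      _ = (st q y * B) * C' * y := by rw [hC'B]; simp only [mul_assoc]
      _ = _ := by rw [← h2]; simp only [mul_assoc]
  · have h3 : (st q y).det * y.det = 1 := by rw [← Matrix.det_mul, hy, Matrix.det_one]
    rw [Matrix.det_mul, Matrix.det_mul, mul_right_comm, h3, one_mul, hC'd]

end Cfsg.Agent.H152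
end

-- part: H152/ModelCount
section
/-!
# Counting classes by tuples of letters

A letter of degree `a ≥ 1` is a pair `(c, i)`, `c` in a finite cyclic group `C`, `i < q ^ (a - 1)`; one letter of
degree `0`. `X C q r N` : tuples `(g_1, ..., g_r)` of letters with `∑ k deg g_k = N`; `tdet g = ∏ c_k ^ k`.

`card_mul_le` : if `Φ : Y → X C q n n` has `tdet (Φ y) = 1` and fibres of size at most
`#{x ∈ C : x ^ k = 1 for all k with g_k ≠ 1}` then `|Y| |C| ≤ ∑_{(a, b) ∈ C²} K (n / d) (n / d)`,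
`d = lcm(o(a), o(b))`, the sum over the pairs with `d ∣ n`.
-/

set_option autoImplicit false

namespace Cfsg.Agent.H152.Model

open Finset

/-! ### The numbers -/

/-- the number of tuples -/
def K (w : ℕ → ℕ) : ℕ → ℕ → ℕ
  | 0, N => if N = 0 then 1 else 0
  | r + 1, N => ∑ a ∈ range (N / (r + 1) + 1), w a * K w r (N - a * (r + 1))

/-- the number of letters of degree `a` -/
def w (m q a : ℕ) : ℕ := if a = 0 then 1 else m * q ^ (a - 1)

theorem card_le_sum_fibres {α β : Type*} [Finite α] [Fintype β] (Φ : α → β) (t : β → ℕ)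
    (h : ∀ b, Nat.card {a // Φ a = b} ≤ t b) : Nat.card α ≤ ∑ b, t b := by
  classical
  rw [← Nat.card_congr (Equiv.sigmaFiberEquiv Φ), Nat.card_sigma]
  exact Finset.sum_le_sum fun b _ => h b

theorem card_quotient_le {C : Type*} [CommGroup C] [Finite C] [IsCyclic C] (I : Set ℕ) (H : Subgroup C)
    (hH : ∀ k ∈ I, ∀ x : C, x ^ k ∈ H) :
    Nat.card (C ⧸ H) ≤ Nat.card {x : C // ∀ k ∈ I, x ^ k = 1} := by
  classical
  obtain ⟨g, hg⟩ := IsCyclic.exists_generator (α := C)
  have hgo : orderOf g = Nat.card C := orderOf_eq_card_of_forall_mem_zpowers hg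
  set N := Nat.card (C ⧸ H) with hN
  have hN0 : 0 < N := Nat.card_pos
  have hNC : N ∣ Nat.card C := H.index_dvd_card
  obtain ⟨c, hc⟩ := hNC
  have hC0 : 0 < Nat.card C := Nat.card_pos
  have hc0 : c ≠ 0 := by rintro rfl; rw [mul_zero] at hc; omega
  have hNk : ∀ k ∈ I, N ∣ k := by
    intro k hk
    have hgen : ∀ y : C ⧸ H, y ∈ Subgroup.zpowers (QuotientGroup.mk g : C ⧸ H) := by
      intro y
      obtain ⟨x, rfl⟩ := QuotientGroup.mk_surjective y
      obtain ⟨z, rfl⟩ := Subgroup.mem_zpowers_iff.1 (hg x)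
      exact Subgroup.mem_zpowers_iff.2 ⟨z, by rw [QuotientGroup.mk_zpow]⟩
    rw [hN, ← orderOf_eq_card_of_forall_mem_zpowers hgen]
    apply orderOf_dvd_of_pow_eq_one
    rw [← QuotientGroup.mk_pow, QuotientGroup.eq_one_iff]
    exact hH k hk g
  have hz : orderOf (g ^ c) = N := by
    rw [orderOf_pow' g hc0, hgo, hc, Nat.gcd_eq_right (Dvd.intro_left N rfl)]
    exact Nat.mul_div_cancel N (Nat.pos_of_ne_zero hc0)
  rw [← hz, ← Nat.card_zpowers]
  refine Nat.card_le_card_of_injective (fun x => ⟨x.1, fun k hk => ?_⟩) ?_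
  · obtain ⟨j, hj⟩ := Subgroup.mem_zpowers_iff.1 x.2
    obtain ⟨m, hm⟩ := hNk k hk
    rw [← hj, hm, pow_mul]
    have : ((g ^ c) ^ j) ^ N = 1 := by
      rw [← zpow_natCast, ← zpow_mul, mul_comm, zpow_mul, zpow_natCast, ← hz, pow_orderOf_eq_one, one_zpow]
    rw [this, one_pow]
  · intro x y hxy
    exact Subtype.ext (Subtype.mk.inj hxy)

/-! ### Letters and tuples -/

variable (C : Type*) [CommGroup C] (q : ℕ)

/-- letters of degree `a` -/
def P (a : ℕ) : Set (ℕ × C × ℕ) :=
  {x | x.1 = a ∧ ((a = 0 ∧ x.2.1 = 1 ∧ x.2.2 = 0) ∨ (0 < a ∧ x.2.2 < q ^ (a - 1)))}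

/-- the letter of degree `0` -/
def one : ℕ × C × ℕ := (0, 1, 0)

/-- tuples `(g_1, ..., g_r)` with `∑ k deg g_k = N` -/
def X (r N : ℕ) : Set (ℕ → ℕ × C × ℕ) :=
  {g | (∀ k, g k ∈ P C q (g k).1) ∧ (∀ k, k = 0 ∨ r < k → g k = one C) ∧
    ∑ k ∈ range (r + 1), k * (g k).1 = N}

variable {C} {q}

theorem P_zero_subset : P C q 0 ⊆ {one C} := by
  rintro ⟨a, c, i⟩ ⟨h1, h2⟩
  simp only at h1 h2
  rcases h2 with ⟨-, h3, h4⟩ | ⟨h3, -⟩
  · rw [Set.mem_singleton_iff, one, h1, h3, h4]
  · omega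

theorem eq_one_of {x : ℕ × C × ℕ} (hx : x ∈ P C q x.1) (h : x.1 = 0) : x = one C := by
  rw [h] at hx
  exact P_zero_subset hx

theorem one_mem : one C ∈ P C q 0 := ⟨rfl, Or.inl ⟨rfl, rfl, rfl⟩⟩

/-- coordinates -/
def coord (a : ℕ) (x : P C q (a + 1)) : C × Fin (q ^ a) :=
  (x.1.2.1, ⟨x.1.2.2, by
    rcases x.2.2 with ⟨h, -, -⟩ | ⟨-, h⟩
    · omega
    · rwa [Nat.add_sub_cancel] at h⟩)

theorem coord_injective (a : ℕ) : Function.Injective (coord (C := C) (q := q) a) := by
  rintro ⟨⟨x1, x2, x3⟩, hx1, hx⟩ ⟨⟨y1, y2, y3⟩, hy1, hy⟩ h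
  simp only [coord, Prod.mk.injEq, Fin.mk.injEq] at h
  simp only at hx1 hy1
  apply Subtype.ext
  simp only [Prod.mk.injEq]
  exact ⟨hx1.trans hy1.symm, h.1, h.2⟩

instance finite_P [Finite C] (a : ℕ) : Finite (P C q a) := by
  rcases a with _ | a
  · exact ((Set.finite_singleton _).subset P_zero_subset).to_subtype
  · exact Finite.of_injective _ (coord_injective a)

theorem card_P_le [Finite C] (a : ℕ) : Nat.card (P C q a) ≤ w (Nat.card C) q a := by
  rcases a with _ | a
  · rw [w, if_pos rfl]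
    have : Nat.card (P C q 0) ≤ Nat.card ({one C} : Set (ℕ × C × ℕ)) :=
      Nat.card_le_card_of_injective (Set.inclusion P_zero_subset) (Set.inclusion_injective _)
    simpa using this
  · rw [w, if_neg (Nat.succ_ne_zero a), Nat.add_sub_cancel]
    have := Nat.card_le_card_of_injective _ (coord_injective (C := C) (q := q) a)
    rw [Nat.card_prod, Nat.card_fin] at this
    exact this

theorem X_zero_subset (N : ℕ) : X C q 0 N ⊆ {fun _ => one C} := by
  rintro g ⟨-, h, -⟩
  rw [Set.mem_singleton_iff]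
  funext k
  exact h k (by omega)

theorem X_zero_empty {N : ℕ} (hN : N ≠ 0) : X C q 0 N = ∅ := by
  rw [Set.eq_empty_iff_forall_notMem]
  rintro g ⟨-, -, h⟩
  simp at h
  exact hN h.symm

/-- splitting off the last letter -/
noncomputable def split (r N : ℕ) (g : X C q (r + 1) N) :
    Σ a : Fin (N / (r + 1) + 1), P C q a × X C q r (N - a * (r + 1)) :=
  have h1 : (g.1 (r + 1)).1 * (r + 1) ≤ N := by
    have h := g.2.2.2
    rw [sum_range_succ, mul_comm] at h
    omega
  ⟨⟨(g.1 (r + 1)).1, Nat.lt_succ_of_le ((Nat.le_div_iff_mul_le (Nat.succ_pos r)).2 h1)⟩,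
    ⟨g.1 (r + 1), g.2.1 (r + 1)⟩,
    ⟨Function.update g.1 (r + 1) (one C), by
      refine ⟨fun k => ?_, fun k hk => ?_, ?_⟩
      · rcases eq_or_ne k (r + 1) with rfl | hk
        · rw [Function.update_self]; exact one_mem
        · rw [Function.update_of_ne hk]; exact g.2.1 k
      · rcases eq_or_ne k (r + 1) with rfl | hk'
        · rw [Function.update_self]
        · rw [Function.update_of_ne hk']; exact g.2.2.1 k (by omega)
      · have h := g.2.2.2
        rw [sum_range_succ] at h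
        have h2 : ∑ k ∈ range (r + 1), k * (Function.update g.1 (r + 1) (one C) k).1 =
            ∑ k ∈ range (r + 1), k * (g.1 k).1 := by
          refine sum_congr rfl fun k hk => ?_
          rw [Function.update_of_ne]
          have := mem_range.1 hk
          omega
        rw [h2]
        simp only
        rw [mul_comm (g.1 (r + 1)).1]
        omega⟩⟩

theorem split_injective (r N : ℕ) : Function.Injective (split (C := C) (q := q) r N) := by
  have key : ∀ g : X C q (r + 1) N, g.1 = Function.update (split r N g).2.2.1 (r + 1) (split r N g).2.1.1 := by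
    intro g
    funext k
    rcases eq_or_ne k (r + 1) with rfl | hk
    · rw [Function.update_self]; rfl
    · rw [Function.update_of_ne hk]
      change g.1 k = Function.update g.1 (r + 1) (one C) k
      rw [Function.update_of_ne hk]
  intro g h hgh
  apply Subtype.ext
  rw [key g, key h, hgh]

instance finite_X [Finite C] (r : ℕ) : ∀ N : ℕ, Finite (X C q r N) := by
  induction r with
  | zero => intro N; exact ((Set.finite_singleton _).subset (X_zero_subset N)).to_subtype
  | succ r ih =>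
    intro N
    have := ih
    exact Finite.of_injective _ (split_injective r N)

theorem card_X_le [Finite C] (r : ℕ) : ∀ N : ℕ, Nat.card (X C q r N) ≤ K (w (Nat.card C) q) r N := by
  classical
  induction r with
  | zero =>
    intro N
    rw [K]
    split_ifs with h
    · have : Nat.card (X C q 0 N) ≤ Nat.card ({fun _ => one C} : Set (ℕ → ℕ × C × ℕ)) :=
        Nat.card_le_card_of_injective (Set.inclusion (X_zero_subset N)) (Set.inclusion_injective _)
      simpa using this
    · rw [X_zero_empty h]; simp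
  | succ r ih =>
    intro N
    refine (Nat.card_le_card_of_injective _ (split_injective r N)).trans ?_
    rw [Nat.card_sigma, K, ← Fin.sum_univ_eq_sum_range
      (fun a => w (Nat.card C) q a * K (w (Nat.card C) q) r (N - a * (r + 1)))]
    refine sum_le_sum fun a _ => ?_
    rw [Nat.card_prod]
    exact Nat.mul_le_mul (card_P_le _) (ih _)

/-! ### The determinant and the action -/

variable {n : ℕ}

/-- the determinant of a tuple -/
def tdet (n : ℕ) (g : ℕ → ℕ × C × ℕ) : C := ∏ k ∈ range (n + 1), (g k).2.1 ^ k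

/-- the number of elements killed by the support of `g` -/
noncomputable def tt (g : ℕ → ℕ × C × ℕ) : ℕ := Nat.card {x : C // ∀ k, g k ≠ one C → x ^ k = 1}

open Classical in
/-- the support -/
noncomputable def supp (n : ℕ) (g : ℕ → ℕ × C × ℕ) : Finset ℕ :=
  (range (n + 1)).filter fun k => g k ≠ one C

theorem mem_supp {g : ℕ → ℕ × C × ℕ} (hg : g ∈ X C q n n) (k : ℕ) : k ∈ supp n g ↔ g k ≠ one C := by
  classical
  rw [supp, Finset.mem_filter, Finset.mem_range]
  refine ⟨fun h => h.2, fun h => ⟨?_, h⟩⟩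
  by_contra hk
  exact h (hg.2.1 k (by omega))

/-- scale the letters with index in `I` -/
def act (I : Finset ℕ) (γ : ℕ → C) (g : ℕ → ℕ × C × ℕ) : ℕ → ℕ × C × ℕ :=
  fun k => if k ∈ I then ((g k).1, γ k * (g k).2.1, (g k).2.2) else g k

theorem act_fst (I : Finset ℕ) (γ : ℕ → C) (g : ℕ → ℕ × C × ℕ) (k : ℕ) :
    (act I γ g k).1 = (g k).1 := by
  rw [act]
  split_ifs <;> rfl

theorem act_coeff {I : Finset ℕ} {γ : ℕ → C} {g : ℕ → ℕ × C × ℕ} {k : ℕ} (hk : k ∈ I) :
    (act I γ g k).2.1 = γ k * (g k).2.1 := by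
  rw [act, if_pos hk]

theorem act_mem {I : Finset ℕ} (γ : ℕ → C) {g : ℕ → ℕ × C × ℕ} (hg : g ∈ X C q n n) (hI : supp n g = I) :
    act I γ g ∈ X C q n n ∧ supp n (act I γ g) = I := by
  have hmem : ∀ k, k ∈ I ↔ g k ≠ one C := fun k => by rw [← hI, mem_supp hg]
  have hpos : ∀ k, k ∈ I → 0 < (g k).1 := by
    intro k hk
    rw [Nat.pos_iff_ne_zero]
    intro h0
    exact (hmem k).1 hk (eq_one_of (hg.1 k) h0)
  have hX : act I γ g ∈ X C q n n := by
    refine ⟨fun k => ?_, fun k hk => ?_, ?_⟩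
    · by_cases hk : k ∈ I
      · rw [act, if_pos hk]
        refine ⟨rfl, Or.inr ⟨hpos k hk, ?_⟩⟩
        rcases (hg.1 k).2 with ⟨h, -, -⟩ | ⟨-, h⟩
        · have := hpos k hk
          omega
        · exact h
      · rw [act, if_neg hk]; exact hg.1 k
    · have h1 := hg.2.1 k hk
      rw [act, if_neg]
      · exact h1
      · rw [hmem]; exact fun h => h h1
    · refine Eq.trans ?_ hg.2.2
      exact Finset.sum_congr rfl fun k _ => by rw [act_fst]
  refine ⟨hX, ?_⟩
  ext k
  rw [mem_supp hX, hmem]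
  by_cases hk : g k = one C
  · have : k ∉ I := by rw [hmem]; exact fun h => h hk
    rw [act, if_neg this]
  · refine ⟨fun _ => hk, fun _ h => ?_⟩
    have h1 := hpos k ((hmem k).2 hk)
    rw [← act_fst I γ, h, one] at h1
    exact lt_irrefl 0 h1

theorem tdet_act {I : Finset ℕ} (γ : ℕ → C) {g : ℕ → ℕ × C × ℕ} (hI : supp n g = I) :
    tdet n (act I γ g) = (∏ k ∈ I, (γ k) ^ k) * tdet n g := by
  classical
  have hsub : I ⊆ Finset.range (n + 1) := by rw [← hI, supp]; exact Finset.filter_subset _ _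
  have h1 : (∏ k ∈ I, (γ k) ^ k) = ∏ k ∈ Finset.range (n + 1), (if k ∈ I then (γ k) ^ k else 1) := by
    rw [Finset.prod_ite_mem, Finset.inter_eq_right.2 hsub]
  rw [h1, tdet, tdet, ← Finset.prod_mul_distrib]
  refine Finset.prod_congr rfl fun k _ => ?_
  by_cases hk : k ∈ I
  · rw [act_coeff hk, if_pos hk, ← mul_pow]
  · rw [act, if_neg hk, if_neg hk, one_mul]

theorem act_injective {I : Finset ℕ} (γ : ℕ → C) {g g' : ℕ → ℕ × C × ℕ} (h : act I γ g = act I γ g') :
    g = g' := by
  classical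
  funext k
  have hk := congrFun h k
  by_cases hkI : k ∈ I
  · rw [act, act, if_pos hkI, if_pos hkI] at hk
    simp only [Prod.mk.injEq, mul_right_inj] at hk
    exact Prod.ext hk.1 (Prod.ext hk.2.1 hk.2.2)
  · rw [act, act, if_neg hkI, if_neg hkI] at hk
    exact hk

/-- the homomorphism `γ ↦ ∏ γ_k ^ k` -/
def phi (C : Type*) [CommGroup C] (I : Finset ℕ) : (ℕ → C) →* C where
  toFun γ := ∏ k ∈ I, (γ k) ^ k
  map_one' := by simp
  map_mul' a b := by simp [mul_pow, Finset.prod_mul_distrib]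

theorem card_det_one_mul_le [Finite C] [IsCyclic C] (I : Finset ℕ) :
    Nat.card {g : X C q n n // supp n g.1 = I ∧ tdet n g.1 = 1} * Nat.card C ≤
      Nat.card {x : C // ∀ k ∈ I, x ^ k = 1} * Nat.card {g : X C q n n // supp n g.1 = I} := by
  classical
  let H := (phi C I).range
  have hH : ∀ k ∈ (I : Set ℕ), ∀ x : C, x ^ k ∈ H := by
    intro k hk x
    refine ⟨Pi.mulSingle k x, ?_⟩
    change ∏ j ∈ I, (Pi.mulSingle k x : ℕ → C) j ^ j = x ^ k
    rw [Finset.prod_eq_single k]
    · rw [Pi.mulSingle_eq_same]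
    · intro j _ hj; rw [Pi.mulSingle_eq_of_ne hj, one_pow]
    · intro h; exact absurd hk h
  have h1 : Nat.card {g : X C q n n // supp n g.1 = I ∧ tdet n g.1 = 1} * Nat.card H ≤
      Nat.card {g : X C q n n // supp n g.1 = I} := by
    rw [← Nat.card_prod]
    have hγ : ∀ h : H, ∃ γ : ℕ → C, phi C I γ = h.1 := fun h => h.2
    choose γ hγ using hγ
    refine Nat.card_le_card_of_injective
      (fun z => ⟨⟨act I (γ z.2) z.1.1.1, (act_mem (γ z.2) z.1.1.2 z.1.2.1).1⟩,
        (act_mem (γ z.2) z.1.1.2 z.1.2.1).2⟩) ?_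
    rintro ⟨g, h⟩ ⟨g', h'⟩ hgg
    have e1 : act I (γ h) g.1.1 = act I (γ h') g'.1.1 := congrArg (fun z => z.1.1) hgg
    have e2 : ∀ (g : {g : X C q n n // supp n g.1 = I ∧ tdet n g.1 = 1}) (h : H),
        tdet n (act I (γ h) g.1.1) = h.1 := by
      intro g h
      rw [tdet_act (γ h) g.2.1, g.2.2, mul_one]
      exact hγ h
    have e3 : h = h' := by
      apply Subtype.ext
      rw [← e2 g h, ← e2 g' h', e1]
    subst e3
    have e4 := act_injective (γ h) e1
    refine Prod.ext (Subtype.ext (Subtype.ext e4)) rfl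
  have h2 : Nat.card (C ⧸ H) ≤ Nat.card {x : C // ∀ k ∈ I, x ^ k = 1} := card_quotient_le (I : Set ℕ) H hH
  calc Nat.card {g : X C q n n // supp n g.1 = I ∧ tdet n g.1 = 1} * Nat.card C
      = (Nat.card {g : X C q n n // supp n g.1 = I ∧ tdet n g.1 = 1} * Nat.card H) * Nat.card (C ⧸ H) := by
        rw [Subgroup.card_eq_card_quotient_mul_card_subgroup H]; ring
    _ ≤ Nat.card {g : X C q n n // supp n g.1 = I} * Nat.card {x : C // ∀ k ∈ I, x ^ k = 1} :=
        Nat.mul_le_mul h1 h2
    _ = _ := mul_comm _ _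

/-! ### Summation -/

theorem sum_fibre {Y : Type*} [Fintype Y] (T0 : Finset (Finset ℕ)) (s : Y → Finset ℕ) (hs : ∀ y, s y ∈ T0)
    (f : Finset ℕ → ℕ) : ∑ y, f (s y) = ∑ I ∈ T0, Nat.card {y // s y = I} * f I := by
  classical
  rw [← Finset.sum_fiberwise_of_maps_to (s := Finset.univ) (t := T0) (g := s) (fun y _ => hs y)]
  refine Finset.sum_congr rfl fun I _ => ?_
  rw [Finset.sum_congr rfl (g := fun _ => f I) (fun y hy => by rw [(Finset.mem_filter.1 hy).2]),
    Finset.sum_const, smul_eq_mul, Nat.card_eq_fintype_card, Fintype.card_subtype]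

theorem supp_mem_powerset (g : ℕ → ℕ × C × ℕ) : supp n g ∈ (Finset.range (n + 1)).powerset := by
  classical
  rw [Finset.mem_powerset, supp]; exact Finset.filter_subset _ _

theorem tt_eq {g : ℕ → ℕ × C × ℕ} (hg : g ∈ X C q n n) :
    tt g = Nat.card {x : C // ∀ k ∈ supp n g, x ^ k = 1} := by
  rw [tt]
  refine Nat.card_congr (Equiv.subtypeEquivRight fun x => ?_)
  refine forall_congr' fun k => ?_
  rw [mem_supp hg]

/-- the tuples killed by `a` and `b` -/
noncomputable def cc (C : Type*) [CommGroup C] (q n : ℕ) (p : C × C) : ℕ :=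
  Nat.card {g : X C q n n // ∀ k, g.1 k ≠ one C → p.1 ^ k = 1 ∧ p.2 ^ k = 1}

theorem sum_tt_sq [Finite C] [Fintype (X C q n n)] [Fintype (C × C)] :
    ∑ g : X C q n n, tt g.1 ^ 2 = ∑ p : C × C, cc C q n p := by
  classical
  have h1 : ∀ g : X C q n n, tt g.1 ^ 2 =
      ∑ p : C × C, if (∀ k, g.1 k ≠ one C → p.1 ^ k = 1 ∧ p.2 ^ k = 1) then 1 else 0 := by
    intro g
    rw [← Finset.card_filter, ← Fintype.card_subtype, ← Nat.card_eq_fintype_card, tt, pow_two, ← Nat.card_prod]
    refine Nat.card_congr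
      { toFun := fun z => ⟨(z.1.1, z.2.1), fun k hk => ⟨z.1.2 k hk, z.2.2 k hk⟩⟩
        invFun := fun z => (⟨z.1.1, fun k hk => (z.2 k hk).1⟩, ⟨z.1.2, fun k hk => (z.2 k hk).2⟩)
        left_inv := fun z => rfl
        right_inv := fun z => rfl }
  have h2 : ∀ p : C × C, cc C q n p =
      ∑ g : X C q n n, if (∀ k, g.1 k ≠ one C → p.1 ^ k = 1 ∧ p.2 ^ k = 1) then 1 else 0 := by
    intro p
    rw [← Finset.card_filter, ← Fintype.card_subtype, ← Nat.card_eq_fintype_card, cc]
  simp_rw [h1, h2]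
  exact Finset.sum_comm

/-- **The counting theorem.** -/
theorem card_mul_le [Finite C] [IsCyclic C] [Fintype (C × C)] {Y : Type*} [Finite Y]
    (Φ : Y → X C q n n) (hdet : ∀ y, tdet n (Φ y).1 = 1)
    (hfib : ∀ g : X C q n n, Nat.card {y // Φ y = g} ≤ tt g.1) :
    Nat.card Y * Nat.card C ≤ ∑ p : C × C, cc C q n p := by
  classical
  have := Fintype.ofFinite (X C q n n)
  have := Fintype.ofFinite {g : X C q n n // tdet n g.1 = 1}
  set T : Finset ℕ → ℕ := fun I => Nat.card {x : C // ∀ k ∈ I, x ^ k = 1} with hT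
  let Ψ : Y → {g : X C q n n // tdet n g.1 = 1} := fun y => ⟨Φ y, hdet y⟩
  have h1 : Nat.card Y ≤ ∑ g : {g : X C q n n // tdet n g.1 = 1}, T (supp n g.1.1) := by
    refine card_le_sum_fibres Ψ _ fun g => ?_
    rw [hT]
    simp only
    rw [← tt_eq g.1.2]
    refine le_trans (le_of_eq ?_) (hfib g.1)
    exact Nat.card_congr (Equiv.subtypeEquivRight fun y => Subtype.ext_iff)
  have h2 := sum_fibre (Y := {g : X C q n n // tdet n g.1 = 1}) (Finset.range (n + 1)).powerset
    (fun g => supp n g.1.1) (fun g => supp_mem_powerset _) T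
  have h3 := sum_fibre (Y := X C q n n) (Finset.range (n + 1)).powerset
    (fun g => supp n g.1) (fun g => supp_mem_powerset _) (fun I => T I ^ 2)
  rw [← sum_tt_sq (C := C) (q := q) (n := n)]
  have h4 : ∑ g : X C q n n, tt g.1 ^ 2 = ∑ g : X C q n n, T (supp n g.1) ^ 2 :=
    Finset.sum_congr rfl fun g _ => by rw [tt_eq g.2]
  rw [h4, h3]
  refine (Nat.mul_le_mul_right _ h1).trans ?_
  rw [h2, Finset.sum_mul]
  refine Finset.sum_le_sum fun I _ => ?_
  have h5 := card_det_one_mul_le (C := C) (q := q) (n := n) I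
  have h6 : Nat.card {g : {g : X C q n n // tdet n g.1 = 1} // supp n g.1.1 = I} =
      Nat.card {g : X C q n n // supp n g.1 = I ∧ tdet n g.1 = 1} :=
    Nat.card_congr
      { toFun := fun z => ⟨z.1.1, z.2, z.1.2⟩
        invFun := fun z => ⟨⟨z.1, z.2.2⟩, z.2.1⟩
        left_inv := fun z => rfl
        right_inv := fun z => rfl }
  calc Nat.card {g : {g : X C q n n // tdet n g.1 = 1} // supp n g.1.1 = I} * T I * Nat.card C
      = (Nat.card {g : X C q n n // supp n g.1 = I ∧ tdet n g.1 = 1} * Nat.card C) * T I := by rw [h6]; ring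
    _ ≤ (T I * Nat.card {g : X C q n n // supp n g.1 = I}) * T I := Nat.mul_le_mul_right _ h5
    _ = _ := by ring

/-! ### The terms of the sum -/

theorem card_dvd_le [Finite C] {d : ℕ} (hd : 0 < d) :
    Nat.card {g : X C q n n // ∀ k, g.1 k ≠ one C → d ∣ k} ≤
      if d ∣ n then K (w (Nat.card C) q) (n / d) (n / d) else 0 := by
  classical
  have hsum : ∀ g : X C q n n, (∀ k, g.1 k ≠ one C → d ∣ k) → d ∣ n := by
    intro g hg
    have h1 := g.2.2.2
    have h2 : d ∣ ∑ k ∈ Finset.range (n + 1), k * (g.1 k).1 := by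
      refine Finset.dvd_sum fun k _ => ?_
      by_cases hk : g.1 k = one C
      · rw [hk, one, mul_zero]; exact dvd_zero _
      · exact (hg k hk).mul_right _
    rwa [h1] at h2
  split_ifs with hdn
  · obtain ⟨m, rfl⟩ := hdn
    rw [Nat.mul_div_cancel_left m hd]
    refine le_trans ?_ (card_X_le (C := C) (q := q) m m)
    refine Nat.card_le_card_of_injective (fun g => ⟨fun j => g.1.1 (d * j), ?_, ?_, ?_⟩) ?_
    · exact fun j => g.1.2.1 (d * j)
    · rintro j (rfl | hj)
      · exact g.1.2.2.1 _ (Or.inl (by simp))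
      · exact g.1.2.2.1 _ (Or.inr (Nat.mul_lt_mul_of_pos_left hj hd))
    · have h1 := g.1.2.2.2
      apply Nat.eq_of_mul_eq_mul_left hd
      refine Eq.trans ?_ h1
      rw [Finset.mul_sum]
      have h3 : ∑ k ∈ (Finset.range (d * m + 1)).filter (fun k => d ∣ k), k * (g.1.1 k).1 =
          ∑ k ∈ Finset.range (d * m + 1), k * (g.1.1 k).1 := by
        refine Finset.sum_filter_of_ne fun k _ hk => ?_
        apply g.2
        intro h; rw [h, one, mul_zero] at hk; exact hk rfl
      rw [← h3]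
      refine Finset.sum_bij (fun j _ => d * j) ?_ ?_ ?_ ?_
      · intro j hj
        rw [Finset.mem_filter, Finset.mem_range]
        rw [Finset.mem_range] at hj
        exact ⟨Nat.lt_succ_of_le (Nat.mul_le_mul_left d (Nat.le_of_lt_succ hj)), dvd_mul_right _ _⟩
      · intro a _ b _ hab
        exact Nat.eq_of_mul_eq_mul_left hd hab
      · intro k hk
        rw [Finset.mem_filter, Finset.mem_range] at hk
        obtain ⟨hk1, j, rfl⟩ := hk
        refine ⟨j, ?_, rfl⟩
        rw [Finset.mem_range]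
        exact Nat.lt_succ_of_le (Nat.le_of_mul_le_mul_left (Nat.le_of_lt_succ hk1) hd)
      · intro j _
        ring
    · intro g g' hgg
      have h1 : ∀ j, g.1.1 (d * j) = g'.1.1 (d * j) := fun j => congrFun (Subtype.mk.inj hgg) j
      apply Subtype.ext
      apply Subtype.ext
      funext k
      by_cases hk : d ∣ k
      · obtain ⟨j, rfl⟩ := hk; exact h1 j
      · have e1 : g.1.1 k = one C := by by_contra h; exact hk (g.2 k h)
        have e2 : g'.1.1 k = one C := by by_contra h; exact hk (g'.2 k h)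
        rw [e1, e2]
  · rw [Nat.le_zero, Nat.card_eq_zero]
    left
    exact ⟨fun g => hdn (hsum g.1 g.2)⟩

theorem cc_le [Finite C] (p : C × C) :
    cc C q n p ≤ if Nat.lcm (orderOf p.1) (orderOf p.2) ∣ n then
      K (w (Nat.card C) q) (n / Nat.lcm (orderOf p.1) (orderOf p.2))
        (n / Nat.lcm (orderOf p.1) (orderOf p.2)) else 0 := by
  classical
  have hd : 0 < Nat.lcm (orderOf p.1) (orderOf p.2) :=
    Nat.lcm_pos (orderOf_pos p.1) (orderOf_pos p.2)
  refine le_trans (le_of_eq ?_) (card_dvd_le (C := C) (q := q) (n := n) hd)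
  rw [cc]
  refine Nat.card_congr (Equiv.subtypeEquivRight fun g => ?_)
  refine forall_congr' fun k => ?_
  rw [Nat.lcm_dvd_iff, orderOf_dvd_iff_pow_eq_one, orderOf_dvd_iff_pow_eq_one]

end Cfsg.Agent.H152.Model
end

-- part: H152/PolyCount
section
/-!
# Counting conjugate-reciprocal polynomials

`K` with `q ^ 2` elements. The monic `h` of degree `d ≥ 1` with `til σ h = h` and given constant term number at most
`q ^ (d - 1)`. `letter h` : the letter `(deg h, (-1) ^ deg h * h(0), index)`.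
-/

set_option autoImplicit false

namespace Cfsg.Agent.H152

open Polynomial Cfsg.Agent.H186 Cfsg.Agent.ClassicalGeometry.GUBasic

variable {K : Type*} [Field K]

theorem coeff_til {σ : K →+* K} {h : K[X]} (h0 : h.coeff 0 ≠ 0) (hh : til σ h = h) {i : ℕ}
    (hi : i ≤ h.natDegree) : σ (h.coeff (h.natDegree - i)) = h.coeff i * σ (h.coeff 0) := by
  have hne : σ (h.coeff 0) ≠ 0 := (map_ne_zero σ).mpr h0
  have h1 : h.coeff i = (σ (h.coeff 0))⁻¹ * σ (h.coeff (h.natDegree - i)) := by
    conv_lhs => rw [← hh]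
    rw [til, coeff_C_mul, coeff_reverse, natDegree_map, revAt_le hi, coeff_map]
  rw [h1, mul_comm, ← mul_assoc, mul_inv_cancel₀ hne, one_mul]

theorem coeff_zero_norm {σ : K →+* K} {h : K[X]} (hm : h.Monic) (h0 : h.coeff 0 ≠ 0)
    (hh : til σ h = h) : h.coeff 0 * σ (h.coeff 0) = 1 := by
  have h1 := coeff_til h0 hh (Nat.zero_le _)
  rw [Nat.sub_zero, hm.coeff_natDegree, map_one] at h1
  exact h1.symm

variable [Fintype K] {q : ℕ}

/-- The set of the invariant polynomials with given degree and constant term. -/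
def Z (σ : K →+* K) (d : ℕ) (c : K) : Set K[X] :=
  {h | h.Monic ∧ h.natDegree = d ∧ h.coeff 0 = c ∧ h.coeff 0 ≠ 0 ∧ til σ h = h}

/-- The solutions of `σ x = x * c`. -/
theorem card_fix_le (hK : Fintype.card K = q ^ 2) (σ : K →+* K) (hσ : ∀ x, σ x = x ^ q) (c : K) :
    Nat.card {x : K // σ x = x * c} ≤ q := by
  classical
  have hq := two_le hK
  let P : K[X] := X ^ q - C c * X
  have hdeg : P.natDegree = q := by
    have h1 : (C c * X : K[X]).natDegree < (X ^ q : K[X]).natDegree := by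
      rw [natDegree_X_pow]
      exact lt_of_le_of_lt (natDegree_C_mul_le _ _) (by rw [natDegree_X]; omega)
    rw [natDegree_sub_eq_left_of_natDegree_lt h1, natDegree_X_pow]
  have hP : P ≠ 0 := by
    intro h
    rw [h, natDegree_zero] at hdeg
    omega
  have h2 : ∀ x : {x : K // σ x = x * c}, x.1 ∈ P.roots.toFinset := by
    rintro ⟨x, hx⟩
    rw [Multiset.mem_toFinset, mem_roots hP, IsRoot, eval_sub, eval_pow, eval_X, eval_mul, eval_C,
      eval_X, ← hσ, hx]
    ring
  calc Nat.card {x : K // σ x = x * c} ≤ Nat.card P.roots.toFinset :=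
        Nat.card_le_card_of_injective (fun x => (⟨x.1, h2 x⟩ : P.roots.toFinset)) (by
          intro x y hxy
          exact Subtype.ext (Subtype.mk.inj hxy))
    _ = P.roots.toFinset.card := by rw [Nat.card_eq_fintype_card, Fintype.card_coe]
    _ ≤ P.roots.card := Multiset.toFinset_card_le _
    _ ≤ P.natDegree := card_roots' _
    _ = q := hdeg

omit [Fintype K] in
theorem Z_ext {σ : K →+* K} {d : ℕ} {c : K} {h h' : K[X]} (hh : h ∈ Z σ d c) (hh' : h' ∈ Z σ d c)
    (he : ∀ i, 1 ≤ i → 2 * i ≤ d → h.coeff i = h'.coeff i) : h = h' := by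
  obtain ⟨hm, hd, hc, h0, ht⟩ := hh
  obtain ⟨hm', hd', hc', h0', ht'⟩ := hh'
  have hlow : ∀ i, 2 * i ≤ d → h.coeff i = h'.coeff i := by
    intro i hi
    rcases Nat.eq_zero_or_pos i with rfl | hpos
    · rw [hc, hc']
    · exact he i hpos hi
  ext k
  rcases lt_or_ge d k with hk | hk
  · rw [coeff_eq_zero_of_natDegree_lt (by omega), coeff_eq_zero_of_natDegree_lt (by omega)]
  · by_cases hk2 : 2 * k ≤ d
    · exact hlow k hk2
    · have h1 := coeff_til (i := d - k) h0 ht (by omega)
      have h2 := coeff_til (i := d - k) h0' ht' (by omega)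
      rw [hd, show d - (d - k) = k by omega, hc, hlow (d - k) (by omega)] at h1
      rw [hd', show d - (d - k) = k by omega, hc'] at h2
      exact σ.injective (h1.trans h2.symm)

theorem finite_Z (σ : K →+* K) (d : ℕ) (c : K) : Finite (Z σ d c) := by
  refine Finite.of_injective (fun (h : Z σ d c) (i : Fin (d + 1)) => h.1.coeff i) ?_
  intro h h' heq
  apply Subtype.ext
  apply Z_ext h.2 h'.2
  intro i _ hi
  exact congrFun heq ⟨i, by omega⟩

theorem card_Z_le (hK : Fintype.card K = q ^ 2) (σ : K →+* K) (hσ : ∀ x, σ x = x ^ q) (d : ℕ)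
    (hd : 0 < d) (c : K) : Nat.card (Z σ d c) ≤ q ^ (d - 1) := by
  classical
  have hfin : ∀ c : K, Finite {x : K // σ x = x * c} := fun c => inferInstance
  obtain ⟨m, hm | hm⟩ : ∃ m, d = 2 * m + 1 ∨ d = 2 * (m + 1) := by
    rcases Nat.even_or_odd' d with ⟨k, hk | hk⟩
    · exact ⟨k - 1, Or.inr (by omega)⟩
    · exact ⟨k, Or.inl hk⟩
  · have h1 : Nat.card (Z σ d c) ≤ Nat.card (Fin m → K) := by
      refine Nat.card_le_card_of_injective (fun (h : Z σ d c) (i : Fin m) => h.1.coeff (i + 1)) ?_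
      intro h h' heq
      apply Subtype.ext
      apply Z_ext h.2 h'.2
      intro i hi1 hi
      have := congrFun heq ⟨i - 1, by omega⟩
      simp only [show i - 1 + 1 = i by omega] at this
      exact this
    rw [Nat.card_fun, Nat.card_fin, Nat.card_eq_fintype_card (α := K), hK, ← pow_mul] at h1
    have e : d - 1 = 2 * m := by omega
    rw [e]
    exact h1
  · have h1 : Nat.card (Z σ d c) ≤ Nat.card ((Fin m → K) × {x : K // σ x = x * σ c}) := by
      refine Nat.card_le_card_of_injective (fun (h : Z σ d c) =>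
        ((fun (i : Fin m) => h.1.coeff (i + 1)), (⟨h.1.coeff (m + 1), by
          have h2 := coeff_til (i := m + 1) h.2.2.2.2.1 h.2.2.2.2.2 (by rw [h.2.2.1]; omega)
          have e : d - (m + 1) = m + 1 := by omega
          rw [h.2.2.1, e, h.2.2.2.1] at h2
          exact h2⟩ : {x : K // σ x = x * σ c}))) ?_
      intro h h' heq
      simp only [Prod.mk.injEq, Subtype.mk.injEq] at heq
      apply Subtype.ext
      apply Z_ext h.2 h'.2
      intro i hi1 hi
      by_cases him : i = m + 1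
      · rw [him]; exact heq.2
      · have := congrFun heq.1 ⟨i - 1, by omega⟩
        simp only [show i - 1 + 1 = i by omega] at this
        exact this
    rw [Nat.card_prod, Nat.card_fun, Nat.card_fin, Nat.card_eq_fintype_card (α := K), hK, ← pow_mul] at h1
    refine h1.trans ((Nat.mul_le_mul_left _ (card_fix_le hK σ hσ _)).trans ?_)
    rw [← pow_succ]
    exact le_of_eq (by congr 1; omega)

theorem Z_zero_subsingleton (σ : K →+* K) (c : K) : Subsingleton (Z σ 0 c) := by
  constructor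
  intro h h'
  apply Subtype.ext
  apply Z_ext h.2 h'.2
  intro i hi1 hi
  omega

/-- An index of `h` in `Z σ d c`. -/
theorem exists_index (hK : Fintype.card K = q ^ 2) (σ : K →+* K) (hσ : ∀ x, σ x = x ^ q) :
    ∃ idx : K[X] → ℕ, idx 1 = 0 ∧ ∀ d : ℕ, ∀ c : K,
      (∀ h ∈ Z σ d c, 0 < d → idx h < q ^ (d - 1)) ∧
      (∀ h ∈ Z σ d c, ∀ h' ∈ Z σ d c, idx h = idx h' → h = h') := by
  classical
  have key : ∀ d : ℕ, ∀ c : K, ∃ f : Z σ d c → ℕ, Function.Injective f ∧ (0 < d → ∀ h, f h < q ^ (d - 1)) := by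
    intro d c
    have := finite_Z σ d c
    rcases Nat.eq_zero_or_pos d with rfl | hd
    · have := Z_zero_subsingleton σ c
      exact ⟨fun _ => 0, Function.injective_of_subsingleton _, fun h => absurd h (lt_irrefl 0)⟩
    · have h1 := card_Z_le hK σ hσ d hd c
      obtain ⟨g⟩ : Nonempty (Z σ d c ↪ Fin (q ^ (d - 1))) := by
        have := Fintype.ofFinite (Z σ d c)
        apply Function.Embedding.nonempty_of_card_le
        rw [Fintype.card_fin, ← Nat.card_eq_fintype_card]
        exact h1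
      exact ⟨fun h => g h, fun a b hab => g.injective (Fin.ext hab), fun _ h => (g h).2⟩
  choose f hf1 hf2 using key
  refine ⟨fun h => if hh : h ∈ Z σ h.natDegree (h.coeff 0) ∧ 0 < h.natDegree then
    f _ _ ⟨h, hh.1⟩ else 0, ?_, ?_⟩
  · simp
  · intro d c
    have hval : ∀ h (hh : h ∈ Z σ d c), 0 < d →
        (if hh : h ∈ Z σ h.natDegree (h.coeff 0) ∧ 0 < h.natDegree then
          f _ _ ⟨h, hh.1⟩ else 0) = f d c ⟨h, hh⟩ := by
      intro h hh hd
      obtain ⟨hm, hdeg, hc, h0, ht⟩ := id hh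
      subst hdeg
      subst hc
      rw [dif_pos ⟨hh, hd⟩]
    constructor
    · intro h hh hd
      exact lt_of_eq_of_lt (hval h hh hd) (hf2 d c hd _)
    · intro h hh h' hh' heq
      rcases Nat.eq_zero_or_pos d with rfl | hd
      · have := Z_zero_subsingleton σ c
        exact congrArg Subtype.val (Subsingleton.elim (⟨h, hh⟩ : Z σ 0 c) ⟨h', hh'⟩)
      · have heq2 := (hval h hh hd).symm.trans (heq.trans (hval h' hh' hd))
        exact congrArg Subtype.val (hf1 d c heq2)

end Cfsg.Agent.H152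
end

-- part: H152/SUClass
section
/-!
# The classes of `SU_n(q)` and tuples of letters

`card_classes_mul_le` : `(q + 1) k(SU_n(q)) ≤ ∑_{(a, b)} K (n / d) (n / d)`, `d = lcm(o(a), o(b))`, the sum over all
pairs of `(q + 1)`-st roots of unity with `d ∣ n`.
-/

set_option autoImplicit false

namespace Cfsg.Agent.H152

open Polynomial Cfsg.Agent.H186 Cfsg.Agent.ClassicalGeometry.GUBasic

variable {K : Type*} [Field K] [Fintype K] {q n : ℕ}

theorem neg_one_pow_succ (hK : Fintype.card K = q ^ 2) : (-1 : K) ^ (q + 1) = 1 := by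
  obtain ⟨σ, hσ⟩ := exists_powHom hK
  rw [pow_succ, ← hσ, map_neg, map_one]
  ring

theorem cst_pow (hK : Fintype.card K = q ^ 2) (σ : K →+* K) (hσ : ∀ x, σ x = x ^ q) {h : K[X]}
    (hm : h.Monic) (h0 : h.coeff 0 ≠ 0) (hh : til σ h = h) :
    ((-1) ^ h.natDegree * h.coeff 0) ^ (q + 1) = 1 := by
  rw [mul_pow, ← pow_mul, mul_comm h.natDegree, pow_mul, neg_one_pow_succ hK, one_pow, one_mul,
    pow_succ', ← hσ]
  exact coeff_zero_norm hm h0 hh

instance neZeroSucc : NeZero (q + 1) := ⟨Nat.succ_ne_zero q⟩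

open Classical in
/-- The normalised constant term. -/
noncomputable def cst (q : ℕ) (h : K[X]) : rootsOfUnity (q + 1) K :=
  if hh : ((-1) ^ h.natDegree * h.coeff 0) ^ (q + 1) = 1 then rootsOfUnity.mkOfPowEq _ hh else 1

omit [Fintype K] in
theorem cst_val {h : K[X]} (hh : ((-1) ^ h.natDegree * h.coeff 0) ^ (q + 1) = 1) :
    ((cst q h : Kˣ) : K) = (-1) ^ h.natDegree * h.coeff 0 := by
  rw [cst, dif_pos hh]
  rfl

theorem mkSU (hK : Fintype.card K = q ^ 2) (M : Matrix (Fin n) (Fin n) K) (hM : st q M * M = 1)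
    (hdet : M.det = 1) : ∃ s : ↥(Cfsg.SU n K q), (s.1.1 : Matrix (Fin n) (Fin n) K) = M := by
  let s : Matrix.SpecialLinearGroup (Fin n) K := ⟨M, hdet⟩
  have hs : s ∈ Cfsg.SU n K q := by
    intro u v
    have h1 : (⟨M, st q M, mul_eq_one_comm.1 hM, hM⟩ : GL (Fin n) K) ∈ Cfsg.GU n K q :=
      (mem_GU_iff_st hK _).2 hM
    exact h1 u v
  exact ⟨⟨s, hs⟩, rfl⟩

theorem ofSU (hK : Fintype.card K = q ^ 2) (s : ↥(Cfsg.SU n K q)) :
    st q (s.1.1 : Matrix (Fin n) (Fin n) K) * s.1.1 = 1 := by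
  have h1 : (s.1 : GL (Fin n) K) ∈ Cfsg.GU n K q := s.2
  exact (mem_GU_iff_st hK _).1 h1

/-- The tuple of polynomials of a class. -/
noncomputable def clHp (c : ConjClasses ↥(Cfsg.SU n K q)) (k : ℕ) : K[X] :=
  hp (Matrix.toLin' (Quotient.out c : ↥(Cfsg.SU n K q)).1.1) k

omit [Fintype K] in
theorem finrank_fin : Module.finrank K (Fin n → K) = n := by
  rw [Module.finrank_fintype_fun_eq_card, Fintype.card_fin]

/-- **The classes of `SU` and tuples of letters.** -/
theorem exists_map (hK : Fintype.card K = q ^ 2) (n : ℕ) :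
    ∃ Φ : ConjClasses ↥(Cfsg.SU n K q) → Model.X (rootsOfUnity (q + 1) K) q n n,
      (∀ y, Model.tdet n (Φ y).1 = 1) ∧
      (∀ y y' k, (Φ y).1 k = (Φ y').1 k → clHp y k = clHp y' k) ∧
      (∀ y k, (Φ y).1 k ≠ Model.one _ → clHp y k ≠ 1) := by
  classical
  obtain ⟨σ, hσ⟩ := exists_powHom hK
  obtain ⟨idx, hidx1, hidx⟩ := exists_index hK σ hσ
  have hmon : ∀ (y : ConjClasses ↥(Cfsg.SU n K q)) k, (clHp y k).Monic := fun y k => hp_monic _ _
  have hst : ∀ y : ConjClasses ↥(Cfsg.SU n K q),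
      st q ((Quotient.out y : ↥(Cfsg.SU n K q)).1.1 : Matrix (Fin n) (Fin n) K) *
        (Quotient.out y : ↥(Cfsg.SU n K q)).1.1 = 1 := fun y => ofSU hK _
  have h0 : ∀ (y : ConjClasses ↥(Cfsg.SU n K q)) k, (clHp y k).coeff 0 ≠ 0 :=
    fun y k => hp_coeff_zero_ne (toLin'_injective_of_st _ (hst y)) k
  have htil : ∀ (y : ConjClasses ↥(Cfsg.SU n K q)) k, til σ (clHp y k) = clHp y k :=
    fun y k => til_hp_st hK σ hσ _ (hst y) k
  let L : K[X] → ℕ × rootsOfUnity (q + 1) K × ℕ := fun h => (h.natDegree, cst q h, idx h)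
  have hL1 : L 1 = Model.one _ := by
    simp only [L, Model.one, natDegree_one, hidx1, Prod.mk.injEq, and_true, true_and]
    apply Subtype.ext
    apply Units.ext
    rw [cst_val (by simp)]
    simp
  have hZ : ∀ (y : ConjClasses ↥(Cfsg.SU n K q)) k,
      clHp y k ∈ Z σ (clHp y k).natDegree ((clHp y k).coeff 0) :=
    fun y k => ⟨hmon y k, rfl, rfl, h0 y k, htil y k⟩
  have hLP : ∀ (y : ConjClasses ↥(Cfsg.SU n K q)) k,
      L (clHp y k) ∈ Model.P (rootsOfUnity (q + 1) K) q (L (clHp y k)).1 := by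
    intro y k
    refine ⟨rfl, ?_⟩
    rcases Nat.eq_zero_or_pos (clHp y k).natDegree with hd | hd
    · have h1 : clHp y k = 1 := (Polynomial.Monic.natDegree_eq_zero (hmon y k)).1 hd
      rw [h1, hL1]
      exact Or.inl ⟨rfl, rfl, rfl⟩
    · exact Or.inr ⟨hd, (hidx _ _).1 _ (hZ y k) hd⟩
  have hsum : ∀ y : ConjClasses ↥(Cfsg.SU n K q),
      ∑ k ∈ Finset.range (n + 1), k * (clHp y k).natDegree = n := by
    intro y
    have h1 := sum_hp (Matrix.toLin' ((Quotient.out y : ↥(Cfsg.SU n K q)).1.1 : Matrix (Fin n) (Fin n) K))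
    rw [finrank_fin] at h1
    exact h1
  refine ⟨fun y => ⟨fun k => L (clHp y k), hLP y, ?_, hsum y⟩, ?_, ?_, ?_⟩
  · intro k hk
    have h1 : clHp y k = 1 := by
      rcases hk with rfl | hk
      · exact hp_zero _
      · exact hp_of_lt _ (by rw [finrank_fin]; exact hk)
    simp only
    rw [h1, hL1]
  · intro y
    apply Subtype.ext
    apply Units.ext
    have h1 := det_hp (Matrix.toLin' ((Quotient.out y : ↥(Cfsg.SU n K q)).1.1 : Matrix (Fin n) (Fin n) K))
    rw [finrank_fin, LinearMap.det_toLin', (Quotient.out y : ↥(Cfsg.SU n K q)).1.2] at h1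
    rw [Model.tdet]
    push_cast
    rw [h1]
    refine Finset.prod_congr rfl fun k _ => ?_
    congr 1
    exact cst_val (cst_pow hK σ hσ (hmon y k) (h0 y k) (htil y k))
  · intro y y' k h
    simp only [L, Prod.mk.injEq] at h
    obtain ⟨h1, h2, h3⟩ := h
    have h4 : (clHp y k).coeff 0 = (clHp y' k).coeff 0 := by
      have h5 := congrArg (fun z : rootsOfUnity (q + 1) K => ((z : Kˣ) : K)) h2
      rw [cst_val (cst_pow hK σ hσ (hmon y k) (h0 y k) (htil y k)),
        cst_val (cst_pow hK σ hσ (hmon y' k) (h0 y' k) (htil y' k)), h1] at h5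
      exact mul_left_cancel₀ (pow_ne_zero _ (neg_ne_zero.mpr one_ne_zero)) h5
    have h6 := hZ y k
    rw [h1, h4] at h6
    exact (hidx _ _).2 _ h6 _ (hZ y' k) h3
  · intro y k h h1
    apply h
    simp only
    rw [h1, hL1]

theorem card_fibre_le (hK : Fintype.card K = q ^ 2)
    (Φ : ConjClasses ↥(Cfsg.SU n K q) → Model.X (rootsOfUnity (q + 1) K) q n n)
    (h1 : ∀ y y' k, (Φ y).1 k = (Φ y').1 k → clHp y k = clHp y' k)
    (h2 : ∀ y k, (Φ y).1 k ≠ Model.one _ → clHp y k ≠ 1)
    (g : Model.X (rootsOfUnity (q + 1) K) q n n) :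
    Nat.card {y // Φ y = g} ≤ Model.tt g.1 := by
  classical
  rcases isEmpty_or_nonempty {y // Φ y = g} with he | ⟨⟨c₀, hc₀⟩⟩
  · rw [Nat.card_of_isEmpty]; exact Nat.zero_le _
  · obtain ⟨A₀, hA₀⟩ : ∃ A₀ : Matrix (Fin n) (Fin n) K,
        A₀ = (Quotient.out c₀ : ↥(Cfsg.SU n K q)).1.1 := ⟨_, rfl⟩
    have hst₀ : st q A₀ * A₀ = 1 := by rw [hA₀]; exact ofSU hK _
    -- determinants of unitary matrices
    have hdetU : ∀ M : Matrix (Fin n) (Fin n) K, st q M * M = 1 → M.det ^ (q + 1) = 1 := by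
      intro M hM
      obtain ⟨σ, hσ⟩ := exists_powHom hK
      have h3 := congrArg Matrix.det hM
      rw [Matrix.det_mul, Matrix.det_one, st, Matrix.det_transpose] at h3
      have : M.map (fun x => x ^ q) = σ.mapMatrix M := by
        ext i j
        rw [Matrix.map_apply, RingHom.mapMatrix_apply, Matrix.map_apply, hσ]
      rw [this, ← RingHom.map_det, hσ] at h3
      rw [pow_succ, h3]
    let dt : ∀ M : Matrix (Fin n) (Fin n) K, st q M * M = 1 → rootsOfUnity (q + 1) K :=
      fun M hM => rootsOfUnity.mkOfPowEq M.det (hdetU M hM)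
    have hdt : ∀ M hM, ((dt M hM : Kˣ) : K) = M.det := fun M hM => rfl
    let H : Subgroup (rootsOfUnity (q + 1) K) :=
      { carrier := {z | ∃ M : Matrix (Fin n) (Fin n) K, st q M * M = 1 ∧ M * A₀ = A₀ * M ∧
          M.det = ((z : Kˣ) : K)}
        one_mem' := ⟨1, by rw [st_one hK, one_mul], by rw [one_mul, mul_one], by simp⟩
        mul_mem' := by
          rintro a b ⟨M, hM1, hM2, hM3⟩ ⟨N, hN1, hN2, hN3⟩
          refine ⟨M * N, ?_, ?_, ?_⟩
          · rw [st_mul hK]
            calc st q N * st q M * (M * N) = st q N * (st q M * M) * N := by simp only [mul_assoc]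
              _ = 1 := by rw [hM1, mul_one, hN1]
          · rw [mul_assoc, hN2, ← mul_assoc, hM2, mul_assoc]
          · rw [Matrix.det_mul, hM3, hN3]; push_cast; rfl
        inv_mem' := by
          rintro a ⟨M, hM1, hM2, hM3⟩
          have hM1' : M * st q M = 1 := mul_eq_one_comm.mp hM1
          refine ⟨st q M, by rw [st_st hK, hM1'], ?_, ?_⟩
          · calc st q M * A₀ = st q M * A₀ * (M * st q M) := by rw [hM1', mul_one]
              _ = st q M * (A₀ * M) * st q M := by simp only [mul_assoc]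
              _ = (st q M * M) * A₀ * st q M := by rw [← hM2]; simp only [mul_assoc]
              _ = A₀ * st q M := by rw [hM1, one_mul]
          · have h3 : (st q M).det * M.det = 1 := by rw [← Matrix.det_mul, hM1, Matrix.det_one]
            rw [hM3] at h3
            rw [eq_comm]
            push_cast
            exact inv_eq_of_mul_eq_one_left h3 }
    have hH : ∀ k ∈ {k : ℕ | g.1 k ≠ Model.one _}, ∀ x : rootsOfUnity (q + 1) K, x ^ k ∈ H := by
      intro k hk x
      have hk' : hp (Matrix.toLin' A₀) k ≠ 1 := by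
        rw [hA₀]
        exact h2 c₀ k (by rw [hc₀]; exact hk)
      obtain ⟨C, hC1, hC2, hC3⟩ := exists_unitary_commute_det hK A₀ hst₀ k hk' ((x : Kˣ) : K) (by
        have := x.2
        rw [mem_rootsOfUnity] at this
        rw [← Units.val_pow_eq_pow_val, this, Units.val_one])
      exact ⟨C, hC1, hC2, by rw [hC3]; push_cast; rfl⟩
    have hfin : Finite (rootsOfUnity (q + 1) K) := inferInstance
    refine le_trans ?_ (Model.card_quotient_le _ H hH)
    have key : ∀ c : {y // Φ y = g}, ∃ P : Matrix (Fin n) (Fin n) K, st q P * P = 1 ∧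
        P * A₀ = (Quotient.out c.1 : ↥(Cfsg.SU n K q)).1.1 * P := by
      rintro ⟨c, hc⟩
      have h3 : ∀ k, hp (Matrix.toLin' A₀) k =
          hp (Matrix.toLin' (Quotient.out c : ↥(Cfsg.SU n K q)).1.1) k := by
        intro k
        rw [hA₀]
        exact h1 c₀ c k (by rw [hc₀, hc])
      obtain ⟨E, hE⟩ := exists_equiv_of_hp _ _ h3
      let W : Matrix (Fin n) (Fin n) K := LinearMap.toMatrix' E.toLinearMap
      have hWu : IsUnit W := by
        let W' : Matrix (Fin n) (Fin n) K := LinearMap.toMatrix' E.symm.toLinearMap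
        have h1 : W * W' = 1 := by
          rw [← LinearMap.toMatrix'_comp, LinearEquiv.comp_coe, E.symm_trans_self]
          exact LinearMap.toMatrix'_id
        exact IsUnit.of_mul_eq_one _ h1
      have hWA : W * A₀ = (Quotient.out c : ↥(Cfsg.SU n K q)).1.1 * W := by
        apply Matrix.toLin'.injective
        rw [Matrix.toLin'_mul, Matrix.toLin'_mul, Matrix.toLin'_toMatrix']
        exact LinearMap.ext hE
      exact exists_conj hK _ _ W hst₀ (ofSU hK _) hWu hWA
    choose P hP1 hP2 using key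
    refine Nat.card_le_card_of_injective
      (fun c => (QuotientGroup.mk (dt (P c) (hP1 c)) : rootsOfUnity (q + 1) K ⧸ H)) ?_
    intro c c' hcc
    rw [QuotientGroup.eq] at hcc
    obtain ⟨M, hM1, hM2, hM3⟩ := hcc
    have hM1' : M * st q M = 1 := mul_eq_one_comm.mp hM1
    have hP1' : ∀ c, P c * st q (P c) = 1 := fun c => mul_eq_one_comm.mp (hP1 c)
    obtain ⟨Q, hQ⟩ : ∃ Q, Q = P c' * st q M * st q (P c) := ⟨_, rfl⟩
    have hQ1 : st q Q * Q = 1 := by
      rw [hQ, st_mul hK, st_mul hK, st_st hK, st_st hK]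
      calc P c * (M * st q (P c')) * (P c' * st q M * st q (P c))
          = P c * (M * (st q (P c') * P c') * st q M) * st q (P c) := by simp only [mul_assoc]
        _ = 1 := by rw [hP1, mul_one, hM1', mul_one, hP1']
    have hMA : st q M * A₀ = A₀ * st q M := by
      calc st q M * A₀ = st q M * A₀ * (M * st q M) := by rw [hM1', mul_one]
        _ = st q M * (A₀ * M) * st q M := by simp only [mul_assoc]
        _ = (st q M * M) * A₀ * st q M := by rw [← hM2]; simp only [mul_assoc]
        _ = A₀ * st q M := by rw [hM1, one_mul]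
    have hQA : Q * (Quotient.out c.1 : ↥(Cfsg.SU n K q)).1.1 =
        (Quotient.out c'.1 : ↥(Cfsg.SU n K q)).1.1 * Q := by
      have h3 : st q (P c) * (Quotient.out c.1 : ↥(Cfsg.SU n K q)).1.1 = A₀ * st q (P c) := by
        calc st q (P c) * (Quotient.out c.1 : ↥(Cfsg.SU n K q)).1.1
            = st q (P c) * ((Quotient.out c.1 : ↥(Cfsg.SU n K q)).1.1 * P c) * st q (P c) := by
              rw [mul_assoc, mul_assoc, hP1', mul_one]
          _ = (st q (P c) * P c) * A₀ * st q (P c) := by rw [← hP2]; simp only [mul_assoc]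
          _ = _ := by rw [hP1, one_mul]
      calc Q * (Quotient.out c.1 : ↥(Cfsg.SU n K q)).1.1
          = P c' * st q M * (st q (P c) * (Quotient.out c.1 : ↥(Cfsg.SU n K q)).1.1) := by
            rw [hQ]; simp only [mul_assoc]
        _ = P c' * (st q M * A₀) * st q (P c) := by rw [h3]; simp only [mul_assoc]
        _ = (P c' * A₀) * st q M * st q (P c) := by rw [hMA]; simp only [mul_assoc]
        _ = _ := by rw [hP2, hQ]; simp only [mul_assoc]
    have hQd : Q.det = 1 := by
      have e1 : (st q (P c)).det * (P c).det = 1 := by rw [← Matrix.det_mul, hP1, Matrix.det_one]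
      have e2 : (st q M).det * M.det = 1 := by rw [← Matrix.det_mul, hM1, Matrix.det_one]
      have e3 : M.det = ((P c).det)⁻¹ * (P c').det := by
        rw [hM3]; push_cast; rfl
      have e4 : (P c).det ≠ 0 := right_ne_zero_of_mul_eq_one e1
      have e5 : (P c').det ≠ 0 := by
        have : (st q (P c')).det * (P c').det = 1 := by rw [← Matrix.det_mul, hP1, Matrix.det_one]
        exact right_ne_zero_of_mul_eq_one this
      have e6 : (st q (P c)).det = ((P c).det)⁻¹ := eq_inv_of_mul_eq_one_left e1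
      have e7 : (st q M).det = (M.det)⁻¹ := eq_inv_of_mul_eq_one_left e2
      rw [hQ, Matrix.det_mul, Matrix.det_mul, e6, e7, e3]
      field_simp
    obtain ⟨s, hs⟩ := mkSU hK Q hQ1 hQd
    apply Subtype.ext
    rw [← Quotient.out_eq c.1, ← Quotient.out_eq c'.1]
    apply Quotient.sound
    change IsConj (Quotient.out c.1) (Quotient.out c'.1)
    rw [isConj_iff]
    refine ⟨s, ?_⟩
    rw [mul_inv_eq_iff_eq_mul]
    apply Subtype.ext
    apply Subtype.ext
    change s.1.1 * (Quotient.out c.1 : ↥(Cfsg.SU n K q)).1.1 =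
      (Quotient.out c'.1 : ↥(Cfsg.SU n K q)).1.1 * s.1.1
    rw [hs]
    exact hQA

/-- **The number of classes of `SU_n(q)`.** -/
theorem card_classes_mul_le (hK : Fintype.card K = q ^ 2) (n : ℕ)
    [Fintype (rootsOfUnity (q + 1) K × rootsOfUnity (q + 1) K)] :
    Nat.card (ConjClasses ↥(Cfsg.SU n K q)) * Nat.card (rootsOfUnity (q + 1) K) ≤
      ∑ p : rootsOfUnity (q + 1) K × rootsOfUnity (q + 1) K,
        if Nat.lcm (orderOf p.1) (orderOf p.2) ∣ n then
          Model.K (Model.w (Nat.card (rootsOfUnity (q + 1) K)) q)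
            (n / Nat.lcm (orderOf p.1) (orderOf p.2)) (n / Nat.lcm (orderOf p.1) (orderOf p.2))
        else 0 := by
  obtain ⟨Φ, h1, h2, h3⟩ := exists_map hK n
  have hfin : Finite (rootsOfUnity (q + 1) K) := inferInstance
  have hfin' : Finite (ConjClasses ↥(Cfsg.SU n K q)) := inferInstance
  refine (Model.card_mul_le Φ h1 (card_fibre_le hK Φ h2 h3)).trans ?_
  exact Finset.sum_le_sum fun p _ => Model.cc_le p

end Cfsg.Agent.H152
end
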